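import Groth.Agent.GrSect.Point
import Mathlib.Algebra.Module.SpanRank

/-!
# The embedding dimension of the section ring of a rational point
-/

set_option autoImplicit false
set_option linter.style.haveILetI false
set_option linter.unusedSectionVars false
universe u

open FunFld WithZero W4c6gradedringsgw

namespace Groth.Agent.GrSect

variable {k : Type u} [Field k] [IsAlgClosed k] {K : Type u} [Field K] [Algebra k K]
  (hK : IsFunctionField k K) (P : Place k K) (hg : 1 ≤ genus k K)
  {π : K} (hπ : P.1 π = exp (-1 : ℤ))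

/-- The irrelevant ideal. -/
noncomputable abbrev irr : Ideal (SR P) :=
  RingHom.ker (Polynomial.constantCoeff.comp (SR P).val.toRingHom)

theorem mem_irr {p : SR P} : p ∈ irr P ↔ (p : Polynomial K).coeff 0 = 0 := by
  rw [RingHom.mem_ker]
  rfl

omit [IsAlgClosed k] in
theorem coe_eq_sum (p : SR P) :
    p = ∑ n ∈ (p : Polynomial K).support, mono P n ((p : Polynomial K).coeff n) (p.2 n) := by
  apply Subtype.ext
  rw [AddSubmonoidClass.coe_finsetSum]
  exact Polynomial.as_sum_support (p : Polynomial K)

include hK

/-- `T` as an element. -/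
noncomputable def tEl : SR P :=
  mono P 1 1 (by
    rw [mem_L_iff]
    exact ⟨fun Q _ => (map_one Q.1).le, by rw [map_one, ← exp_zero, exp_le_exp]; norm_num⟩)

include hπ in
open Classical in
/-- A set of generators of the irrelevant ideal of size `#minGens + 1`. -/
theorem irr_eq_span : ∃ s : Finset (SR P), s.card ≤ (minGens (poleOrders P)).ncard + 1 ∧
    irr P = Ideal.span (s : Set (SR P)) := by
  have hfin := finite_minGens hK P
  have hgen : ∀ h ∈ minGens (poleOrders P), ∃ x : K, ∃ hx : x ∈ L ((h : ℤ) • D P), P.1 x = exp (h : ℤ) :=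
    fun h hh => by
      obtain ⟨x, hx, hv⟩ := (mem_poleOrders_iff hK P h).1 hh.1
      exact ⟨x, hx, hv⟩
  choose f hf hfv using hgen
  let g : ↥(hfin.toFinset) → SR P := fun h =>
    mono P h.1 (f h.1 (hfin.mem_toFinset.1 h.2)) (hf h.1 (hfin.mem_toFinset.1 h.2))
  refine ⟨insert (tEl P) (Finset.univ.image g), ?_, le_antisymm ?_ ?_⟩
  · refine (Finset.card_insert_le _ _).trans (Nat.add_le_add_right (Finset.card_image_le.trans ?_) 1)
    rw [Finset.card_univ, Fintype.card_coe, Set.ncard_eq_toFinset_card _ hfin]
  · intro p hp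
    rw [mem_irr] at hp
    set I := Ideal.span ((insert (tEl P) (Finset.univ.image g) : Finset (SR P)) : Set (SR P))
    have ht : tEl P ∈ I := Ideal.subset_span (Finset.mem_insert_self _ _)
    -- the low part lies in `(T)`
    have hlow : ∀ (n : ℕ) (x : K) (hx : x ∈ L ((n : ℤ) • D P)), 1 ≤ n →
        P.1 x ≤ exp ((n : ℤ) - 1) → mono P n x hx ∈ I := by
      intro n x hx hn hv
      obtain ⟨m, rfl⟩ : ∃ m, n = m + 1 := ⟨n - 1, by omega⟩
      have hx' : x ∈ L ((m : ℤ) • D P) := (mem_L_iff P _ _).2
        ⟨((mem_L_iff P _ _).1 hx).1, by simpa using hv⟩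
      have e : mono P (m + 1) x hx = mono P m x hx' * tEl P := by
        apply Subtype.ext
        change Polynomial.monomial (m + 1) x = Polynomial.monomial m x * Polynomial.monomial 1 1
        rw [Polynomial.monomial_mul_monomial, mul_one]
      rw [e]
      exact I.mul_mem_left _ ht
    rw [coe_eq_sum P p]
    refine sum_mem fun n hn => ?_
    have hn1 : 1 ≤ n := by
      by_contra h
      obtain rfl : n = 0 := by omega
      exact Polynomial.mem_support_iff.1 hn hp
    have hx := p.2 n
    set x := (p : Polynomial K).coeff n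
    by_cases hv : P.1 x ≤ exp ((n : ℤ) - 1)
    · exact hlow n x hx hn1 hv
    · have hnH : n ∈ poleOrders P := (mem_poleOrders_iff hK P n).2 ⟨x, hx,
        le_antisymm ((mem_L_iff P _ _).1 hx).2 (not_lt.1 fun hlt => hv ((FF.lt_exp_iff _ _).1 hlt))⟩
      obtain ⟨h, hh, b, hb, rfl⟩ := exists_minGen_add hK P n hnH (by omega)
      obtain ⟨y, hy, hyv⟩ := (mem_poleOrders_iff hK P b).1 hb
      let x₀ := f h hh * y
      have hx₀ : x₀ ∈ L (((h + b : ℕ) : ℤ) • D P) := by
        rw [Nat.cast_add, add_smul]
        exact mul_mem_L (hf h hh) hy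
      have hx₀v : P.1 x₀ = exp ((h + b : ℕ) : ℤ) := by
        rw [map_mul, hfv h hh, hyv, ← exp_add, Nat.cast_add]
      have hc0 : chi P π ((h + b : ℕ) : ℤ) x₀ ≠ 0 := fun hz => by
        have := (chi_eq_zero_iff hK P π hπ hx₀v.le).1 hz
        rw [hx₀v, exp_le_exp] at this
        omega
      let c := chi P π ((h + b : ℕ) : ℤ) x / chi P π ((h + b : ℕ) : ℤ) x₀
      have hrest : x - c • x₀ ∈ L (((h + b : ℕ) : ℤ) • D P) := sub_mem hx (Submodule.smul_mem _ _ hx₀)
      have hv₀ : P.1 (c • x₀) ≤ exp ((h + b : ℕ) : ℤ) :=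
        ((mem_L_iff P _ _).1 (Submodule.smul_mem _ c hx₀)).2
      have hchi : chi P π ((h + b : ℕ) : ℤ) (c • x₀) = chi P π ((h + b : ℕ) : ℤ) x := by
        rw [Algebra.smul_def]
        have hm := chi_mul hK P π hπ (m := 0) (n := ((h + b : ℕ) : ℤ)) (x := algebraMap k K c) (y := x₀)
          (by rw [exp_zero]; exact P.2.1 c) hx₀v.le
        rw [zero_add] at hm
        rw [hm, chi_const hK P π hπ, div_mul_cancel₀ _ hc0]
      have hrv : P.1 (x - c • x₀) ≤ exp (((h + b : ℕ) : ℤ) - 1) := by
        rw [← chi_eq_zero_iff hK P π hπ ((mem_L_iff P _ _).1 hrest).2]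
        have ha := chi_add hK P π hπ ((mem_L_iff P _ _).1 hrest).2 hv₀
        rw [sub_add_cancel, hchi] at ha
        exact right_eq_add.1 ha |>.trans rfl
      have e : mono P (h + b) x hx = mono P (h + b) (x - c • x₀) hrest +
          mono P h (f h hh) (hf h hh) * mono P b (c • y) (Submodule.smul_mem _ c hy) := by
        apply Subtype.ext
        change Polynomial.monomial (h + b) x = Polynomial.monomial (h + b) (x - c • x₀) +
          Polynomial.monomial h (f h hh) * Polynomial.monomial b (c • y)
        rw [Polynomial.monomial_mul_monomial, ← map_add, mul_smul_comm, sub_add_cancel]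
      rw [e]
      refine add_mem (hlow _ _ hrest hn1 hrv) (I.mul_mem_right _ (Ideal.subset_span ?_))
      exact Finset.mem_insert_of_mem
        (Finset.mem_image.2 ⟨⟨h, hfin.mem_toFinset.2 hh⟩, Finset.mem_univ _, rfl⟩)
  · rw [Ideal.span_le]
    intro p hp
    rw [Finset.coe_insert, Finset.coe_image] at hp
    rw [SetLike.mem_coe, mem_irr]
    rcases hp with rfl | ⟨h, -, rfl⟩
    · change (Polynomial.monomial 1 (1 : K)).coeff 0 = 0
      rw [Polynomial.coeff_monomial, if_neg one_ne_zero]
    · change (Polynomial.monomial h.1 _).coeff 0 = 0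
      rw [Polynomial.coeff_monomial, if_neg (hfin.mem_toFinset.1 h.2).2.1]

include hg hπ in
/-- The indecomposables have dimension at least `#minGens + 1`. -/
theorem ncard_succ_le_card (s : Finset (SR P)) (hs : irr P = Ideal.span (s : Set (SR P))) :
    (minGens (poleOrders P)).ncard + 1 ≤ s.card := by
  classical
  have hfin := finite_minGens hK P
  let G := Option ↥(hfin.toFinset)
  let Φ : SR P → G → k := fun p o => match o with
    | none => chi P π 0 ((p : Polynomial K).coeff 1)
    | some h => chi P π (h.1 : ℤ) ((p : Polynomial K).coeff h.1)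
  have hc1 : ∀ p : SR P, P.1 ((p : Polynomial K).coeff 1) ≤ exp (0 : ℤ) := fun p => by
    have h := p.2 1
    rw [Nat.cast_one, L_one hK P hg, mem_L_iff] at h
    exact h.2
  have hadd : ∀ p q, Φ (p + q) = Φ p + Φ q := fun p q => funext fun o => by
    rcases o with - | h
    · change chi P π 0 (((p + q : SR P) : Polynomial K).coeff 1) = _
      rw [Subalgebra.coe_add, Polynomial.coeff_add, chi_add hK P π hπ (hc1 p) (hc1 q)]
      rfl
    · change chi P π _ (((p + q : SR P) : Polynomial K).coeff _) = _
      rw [Subalgebra.coe_add, Polynomial.coeff_add, chi_add hK P π hπ (coeff_le P p _) (coeff_le P q _)]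
      rfl
  have hmul : ∀ r p, p ∈ irr P → Φ (r * p) = chi P π 0 ((r : Polynomial K).coeff 0) • Φ p := by
    intro r p hp
    rw [mem_irr] at hp
    have hr0 : P.1 ((r : Polynomial K).coeff 0) ≤ exp (0 : ℤ) := by simpa using coeff_le P r 0
    funext o
    rcases o with - | h
    · change chi P π 0 (((r * p : SR P) : Polynomial K).coeff 1) = _
      rw [Subalgebra.coe_mul, Polynomial.mul_coeff_one, hp, mul_zero, add_zero]
      exact (chi_mul hK P π hπ (m := 0) (n := 0) hr0 (hc1 p)).trans rfl
    · change chi P π _ (((r * p : SR P) : Polynomial K).coeff _) = _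
      have hH := hfin.mem_toFinset.1 h.2
      rw [Subalgebra.coe_mul, Polynomial.coeff_mul, chi_sum hK P π hπ]
      · rw [Finset.sum_eq_single (0, h.1)]
        · have := chi_mul hK P π hπ (m := 0) (n := (h.1 : ℤ)) hr0 (coeff_le P p h.1)
          rw [zero_add] at this
          exact this
        · rintro ⟨i, j⟩ hij hne
          have hij' : i + j = h.1 := by simpa using hij
          rw [show (h.1 : ℤ) = (i : ℤ) + (j : ℤ) by rw [← Nat.cast_add, hij'],
            chi_mul hK P π hπ (coeff_le P r i) (coeff_le P p j)]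
          by_cases hj : j = 0
          · subst hj
            rw [hp, chi_zero hK P π hπ, mul_zero]
          · have hi : i ≠ 0 := fun h0 => hne (by subst h0; simp at hij'; rw [hij'])
            by_contra hprod
            rw [← coeff_psi hK P hπ, ← coeff_psi hK P hπ] at hprod
            exact hH.2.2 i (mem_poleOrders_of_coeff_psi hK P hπ (left_ne_zero_of_mul hprod)) j
              (mem_poleOrders_of_coeff_psi hK P hπ (right_ne_zero_of_mul hprod)) hi hj hij'
        · intro h0
          exact absurd (by simp) h0
      · rintro ⟨i, j⟩ hij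
        have hij' : i + j = h.1 := by simpa using hij
        rw [map_mul, show (h.1 : ℤ) = (i : ℤ) + (j : ℤ) by rw [← Nat.cast_add, hij'], exp_add]
        exact mul_le_mul' (coeff_le P r i) (coeff_le P p j)
  have h0 : Φ 0 = 0 := funext fun o => by
    rcases o with - | h <;>
    · change chi P π _ ((0 : Polynomial K).coeff _) = 0
      rw [Polynomial.coeff_zero, chi_zero hK P π hπ]
  let V := Submodule.span k ((s.image Φ : Finset (G → k)) : Set (G → k))
  have key : ∀ p ∈ Ideal.span (s : Set (SR P)), Φ p ∈ V := by
    intro p hp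
    induction hp using Submodule.span_induction with
    | mem y hy => exact Submodule.subset_span (Finset.mem_image_of_mem Φ hy)
    | zero => rw [h0]; exact zero_mem _
    | add u v _ _ hu hv => rw [hadd]; exact add_mem hu hv
    | smul r v hv ihv =>
      rw [smul_eq_mul, hmul r v (hs ▸ hv)]
      exact Submodule.smul_mem _ _ ihv
  have htop : ∀ o : G, ∃ p ∈ irr P, ∃ c : k, c ≠ 0 ∧ Φ p = Pi.single o c := by
    rintro (- | h)
    · refine ⟨tEl P, (mem_irr P).2 ?_, 1, one_ne_zero, funext fun o => ?_⟩
      · change (Polynomial.monomial 1 (1 : K)).coeff 0 = 0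
        rw [Polynomial.coeff_monomial, if_neg one_ne_zero]
      · rcases o with - | h
        · change chi P π 0 ((Polynomial.monomial 1 (1 : K)).coeff 1) = _
          rw [Polynomial.coeff_monomial, if_pos rfl, Pi.single_eq_same, ← map_one (algebraMap k K),
            chi_const hK P π hπ]
        · have hH := hfin.mem_toFinset.1 h.2
          change chi P π _ ((Polynomial.monomial 1 (1 : K)).coeff h.1) = _
          rw [Polynomial.coeff_monomial, if_neg fun e => one_notMem_poleOrders hK P hg (by rw [e]; exact hH.1),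
            Pi.single_eq_of_ne (Option.some_ne_none h), chi_zero hK P π hπ]
    · have hH := hfin.mem_toFinset.1 h.2
      obtain ⟨x, hx, hc, -⟩ := exists_psi_eq_monomial hK P hπ hH.1
      refine ⟨mono P h.1 x hx, (mem_irr P).2 ?_, _, hc, funext fun o => ?_⟩
      · change (Polynomial.monomial h.1 x).coeff 0 = 0
        rw [Polynomial.coeff_monomial, if_neg hH.2.1]
      · rcases o with - | h'
        · change chi P π 0 ((Polynomial.monomial h.1 x).coeff 1) = _
          rw [Polynomial.coeff_monomial, if_neg fun e => one_notMem_poleOrders hK P hg (by rw [← e]; exact hH.1),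
            Pi.single_eq_of_ne (Option.some_ne_none h).symm, chi_zero hK P π hπ]
        · change chi P π _ ((Polynomial.monomial h.1 x).coeff h'.1) = _
          rw [Polynomial.coeff_monomial]
          by_cases e : h.1 = h'.1
          · obtain rfl : h = h' := Subtype.ext e
            rw [if_pos rfl, Pi.single_eq_same]
          · rw [if_neg e, Pi.single_eq_of_ne fun e' => e (congrArg (fun o : ↥(hfin.toFinset) => o.1)
              (Option.some_injective _ e').symm), chi_zero hK P π hπ]
  have hV : V = ⊤ := by
    refine eq_top_iff.2 fun v _ => ?_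
    rw [← Finset.univ_sum_single v]
    refine sum_mem fun o _ => ?_
    obtain ⟨p, hp, c, hc, hpc⟩ := htop o
    have h := V.smul_mem (v o / c) (key p (hs ▸ hp))
    rw [hpc, ← Pi.single_smul, smul_eq_mul, div_mul_cancel₀ _ hc] at h
    exact h
  have h1 := finrank_span_finset_le_card (R := k) (s.image Φ)
  change Module.finrank k V ≤ _ at h1
  rw [hV, finrank_top, Module.finrank_pi] at h1
  refine le_trans (le_of_eq ?_) (h1.trans Finset.card_image_le)
  rw [Fintype.card_option, Fintype.card_coe, Set.ncard_eq_toFinset_card _ hfin]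

include hg in
/-- `emb R = emb H + 1`. -/
theorem spanFinrank_irr : (irr P).spanFinrank = (minGens (poleOrders P)).ncard + 1 := by
  classical
  obtain ⟨π, hπ⟩ := FF.exists_uniformizer P
  obtain ⟨s, hs, hspan⟩ := irr_eq_span hK P hπ
  refine le_antisymm ?_ ?_
  · rw [hspan]
    exact (Submodule.spanFinrank_span_le_ncard_of_finite s.finite_toSet).trans
      (by rw [Set.ncard_coe_finset]; exact hs)
  · obtain ⟨t, htc, ht⟩ := Submodule.FG.exists_span_finset_card_eq_spanFinrank
      (p := irr P) ⟨s, hspan.symm⟩
    exact (ncard_succ_le_card hK P hg hπ t ht.symm).trans htc.le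

end Groth.Agent.GrSect
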