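import Groth.Prelude.Def_CAlg
import Groth.Prelude.Def_W4c6gradedringsgwSect
import Groth.Agent.Gor.Ring
import Mathlib.RingTheory.RegularLocalRing.Polynomial
import Mathlib.RingTheory.HopkinsLevitzki

/-!
# Numerical semigroup rings: Gorenstein iff symmetric (Kunz)

For a submonoid `H ⊆ ℕ` containing all large integers, `semiRing k H ⊆ k[T]` is Gorenstein iff `H` is
symmetric. Also two lemmas moving the Gorenstein property along localisations and quotients.
-/

set_option autoImplicit false
set_option linter.style.haveILetI false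
set_option linter.unusedSectionVars false
universe u

open IsLocalRing

namespace Groth.Agent.GrSect

section Transfer

variable {A : Type u} [CommRing A]

/-- Gorenstein at a prime disjoint from the inverted elements. -/
theorem gorenstein_atPrime_of_disjoint (M : Submonoid A) (L : Type u) [CommRing L] [Algebra A L]
    [IsLocalization M L] (hL : LocCoh.IsGorensteinRing L) (p : Ideal A) [hp : p.IsPrime]
    (hd : Disjoint (M : Set A) p) : LocCoh.IsGorensteinLocalRing (Localization.AtPrime p) := by
  haveI hq : (p.map (algebraMap A L)).IsPrime :=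
    IsLocalization.isPrime_of_isPrime_disjoint M L p hp hd
  have hc : (p.map (algebraMap A L)).comap (algebraMap A L) = p :=
    IsLocalization.comap_map_of_isPrime_disjoint M L hp hd
  have : IsLocalization.AtPrime (Localization.AtPrime (p.map (algebraMap A L)))
      ((p.map (algebraMap A L)).comap (algebraMap A L)) :=
    IsLocalization.isLocalization_isLocalization_atPrime_isLocalization M _ (p.map (algebraMap A L))
  have hG := hL.isGorensteinLocalRing_localization (p.map (algebraMap A L))
  haveI : IsLocalization.AtPrime (Localization.AtPrime (p.map (algebraMap A L))) p := by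
    convert this using 1
    exact hc.symm
  exact Gor.FlatLocal.gorenstein_of_ringEquiv
    (IsLocalization.algEquiv p.primeCompl (Localization.AtPrime (p.map (algebraMap A L)))
      (Localization.AtPrime p)).toRingEquiv

/-- Gorenstein at a prime containing a regular element. -/
theorem gorenstein_atPrime_quotient_iff [IsNoetherianRing A] {f : A} (hf : IsSMulRegular A f)
    (q : Ideal (A ⧸ Ideal.span {f})) [q.IsPrime] :
    LocCoh.IsGorensteinLocalRing (Localization.AtPrime q) ↔
      LocCoh.IsGorensteinLocalRing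
        (Localization.AtPrime (q.comap (Ideal.Quotient.mk (Ideal.span {f})))) := by
  let q' : Ideal A := q.comap (Ideal.Quotient.mk (Ideal.span {f}))
  have hfq : f ∈ q' := by
    change Ideal.Quotient.mk _ f ∈ q
    rw [Ideal.Quotient.eq_zero_iff_mem.mpr (Ideal.mem_span_singleton_self f)]
    exact q.zero_mem
  let Am := Localization.AtPrime q'
  have hx : algebraMap A Am f ∈ maximalIdeal Am := by
    rwa [IsLocalization.AtPrime.to_map_mem_maximal_iff Am q' f]
  have hreg : IsSMulRegular Am (algebraMap A Am f) :=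
    IsSMulRegular.of_isLocalizedModule Am q'.primeCompl (Algebra.linearMap A Am) hf
  have hJ : (Ideal.span {f}).map (algebraMap A Am) = Ideal.span {algebraMap A Am f} := by
    rw [Ideal.map_span, Set.image_singleton]
  have hM : Algebra.algebraMapSubmonoid (A ⧸ Ideal.span {f}) q'.primeCompl = q.primeCompl := by
    ext y
    obtain ⟨a, rfl⟩ := Ideal.Quotient.mk_surjective y
    constructor
    · rintro ⟨b, hb, hab⟩ hq
      exact hb (show Ideal.Quotient.mk _ b ∈ q by
        rw [← Ideal.Quotient.algebraMap_eq, hab]; exact hq)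
    · intro h
      exact ⟨a, fun ha => h ha, rfl⟩
  have : IsLocalization q.primeCompl (Am ⧸ (Ideal.span {f}).map (algebraMap A Am)) := by
    rw [← hM]; infer_instance
  refine Iff.trans (Gor.FlatLocal.gorenstein_iff_of_ringEquiv
    ((Ideal.quotEquivOfEq hJ.symm).trans
      (IsLocalization.algEquiv q.primeCompl (Am ⧸ (Ideal.span {f}).map (algebraMap A Am))
        (Localization.AtPrime q)).toRingEquiv)).symm (Gor.Basic.gorenstein_quotient_iff hx hreg).symm

theorem map_mk_isMaximal {J m : Ideal A} [hm : m.IsMaximal] (hle : J ≤ m) :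
    (m.map (Ideal.Quotient.mk J)).IsMaximal :=
  (Ideal.map_eq_top_or_isMaximal_of_surjective _ Ideal.Quotient.mk_surjective hm).resolve_left
    fun h => hm.ne_top (by
      have h2 := Ideal.comap_map_of_surjective (Ideal.Quotient.mk J) Ideal.Quotient.mk_surjective m
      rw [h, Ideal.comap_top, ← RingHom.ker_eq_comap_bot, Ideal.mk_ker, sup_eq_left.2 hle] at h2
      exact h2.symm)

end Transfer

variable (k : Type u) [Field k] (H : AddSubmonoid ℕ)

/-- The semigroup ring inside `k[T]`. -/
noncomputable def semiRing : Subalgebra k (Polynomial k) where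
  carrier := {p | ∀ n, p.coeff n ≠ 0 → n ∈ H}
  mul_mem' {p q} hp hq n h := by
    rw [Polynomial.coeff_mul] at h
    obtain ⟨⟨i, j⟩, hij, hne⟩ := Finset.exists_ne_zero_of_sum_ne_zero h
    have hij' : i + j = n := by simpa using hij
    exact hij' ▸ add_mem (hp i (left_ne_zero_of_mul hne)) (hq j (right_ne_zero_of_mul hne))
  add_mem' {p q} hp hq n h := by
    rw [Polynomial.coeff_add] at h
    by_cases h1 : p.coeff n = 0
    · rw [h1, zero_add] at h; exact hq n h
    · exact hp n h1
  algebraMap_mem' c n h := by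
    rw [Polynomial.algebraMap_apply, Polynomial.coeff_C] at h
    split_ifs at h with h0
    · exact h0 ▸ H.zero_mem
    · exact absurd rfl h

variable {k H}

/-- A monomial of the semigroup ring. -/
noncomputable def mon (n : ℕ) (hn : n ∈ H) (c : k) : semiRing k H :=
  ⟨Polynomial.monomial n c, fun m hm => by
    rw [Polynomial.coeff_monomial] at hm
    split_ifs at hm with h
    · exact h ▸ hn
    · exact absurd rfl hm⟩

theorem eq_sum_mon (p : semiRing k H) : p = ∑ n ∈ (p : Polynomial k).support.attach,
    mon n.1 (p.2 n.1 (Polynomial.mem_support_iff.1 n.2)) ((p : Polynomial k).coeff n.1) := by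
  apply Subtype.ext
  rw [AddSubmonoidClass.coe_finsetSum]
  conv_lhs => rw [Polynomial.as_sum_support (p : Polynomial k), ← Finset.sum_attach]
  rfl

theorem mon_mul {a b : ℕ} (ha : a ∈ H) (hb : b ∈ H) (c d : k) :
    mon a ha c * mon b hb d = mon (a + b) (add_mem ha hb) (c * d) :=
  Subtype.ext (Polynomial.monomial_mul_monomial a b c d)

/-- `n` is a socle degree modulo `T^e`. -/
def IsSocDeg (H : AddSubmonoid ℕ) (e n : ℕ) : Prop :=
  n ∈ H ∧ (¬ ∃ h ∈ H, h + e = n) ∧ ∀ h ∈ H, h ≠ 0 → ∃ g ∈ H, g + e = n + h

variable {e : ℕ} (he : e ∈ H) (he0 : e ≠ 0) {N : ℕ} (hN : ∀ n, N ≤ n → n ∈ H)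

theorem mem_span_iff (q : semiRing k H) :
    q ∈ Ideal.span {mon e he (1 : k)} ↔
      ∀ n, (q : Polynomial k).coeff n ≠ 0 → ∃ h ∈ H, h + e = n := by
  constructor
  · intro h n hn
    obtain ⟨s, rfl⟩ := Ideal.mem_span_singleton'.1 h
    change ((s : Polynomial k) * Polynomial.monomial e 1).coeff n ≠ 0 at hn
    rw [Polynomial.monomial_one_right_eq_X_pow, Polynomial.coeff_mul_X_pow'] at hn
    split_ifs at hn with hle
    · exact ⟨n - e, s.2 _ hn, by omega⟩
    · exact absurd rfl hn
  · intro h
    rw [eq_sum_mon q]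
    refine sum_mem fun n _ => ?_
    obtain ⟨g, hg, hge⟩ := h n.1 (Polynomial.mem_support_iff.1 n.2)
    refine Ideal.mem_span_singleton'.2 ⟨mon g hg ((q : Polynomial k).coeff n.1), ?_⟩
    rw [mon_mul, mul_one]
    apply Subtype.ext
    change Polynomial.monomial (g + e) _ = Polynomial.monomial n.1 _
    rw [hge]

/-- The augmentation. -/
noncomputable def aug : semiRing k H →+* k := Polynomial.constantCoeff.comp (semiRing k H).val.toRingHom

theorem aug_apply (p : semiRing k H) : aug p = (p : Polynomial k).coeff 0 := rfl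

theorem aug_surjective : Function.Surjective (aug (k := k) (H := H)) := fun c =>
  ⟨mon 0 H.zero_mem c, Polynomial.coeff_monomial_same 0 c⟩

include he0 in
theorem span_le_ker_aug : Ideal.span {mon e he (1 : k)} ≤ RingHom.ker (aug (k := k) (H := H)) := by
  rw [Ideal.span_le, Set.singleton_subset_iff, SetLike.mem_coe, RingHom.mem_ker, aug_apply]
  change (Polynomial.monomial e (1 : k)).coeff 0 = 0
  rw [Polynomial.coeff_monomial, if_neg he0]

include he0 in
theorem eq_ker_aug_of_mem (p : Ideal (semiRing k H)) [hp : p.IsPrime] (h : mon e he (1 : k) ∈ p) :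
    p = RingHom.ker (aug (k := k) (H := H)) := by
  have hle : RingHom.ker (aug (k := k) (H := H)) ≤ p := by
    intro q hq
    rw [RingHom.mem_ker, aug_apply] at hq
    rw [eq_sum_mon q]
    refine sum_mem fun n _ => ?_
    have hn := Polynomial.mem_support_iff.1 n.2
    obtain ⟨j, hj⟩ : ∃ j, n.1 = j + 1 := ⟨n.1 - 1, by
      have : n.1 ≠ 0 := fun e => hn (by rw [e]; exact hq)
      omega⟩
    have hnH := q.2 n.1 hn
    refine hp.mem_of_pow_mem e ?_
    have key : mon n.1 hnH ((q : Polynomial k).coeff n.1) ^ e =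
        mon (j * e) (by simpa using AddSubmonoid.nsmul_mem H he j)
          (((q : Polynomial k).coeff n.1) ^ e) * mon e he 1 := by
      apply Subtype.ext
      change (Polynomial.monomial n.1 _) ^ e = Polynomial.monomial (j * e) _ * Polynomial.monomial e 1
      rw [Polynomial.monomial_pow, Polynomial.monomial_mul_monomial, mul_one, hj,
        show (j + 1) * e = j * e + e by ring]
    rw [key]
    exact p.mul_mem_left _ h
  exact ((RingHom.ker_isMaximal_of_surjective (aug (k := k) (H := H)) aug_surjective).eq_of_le hp.ne_top hle).symm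

include he0 hN in
theorem gorenstein_of_notMem (p : Ideal (semiRing k H)) [p.IsPrime] (h : mon e he (1 : k) ∉ p) :
    LocCoh.IsGorensteinLocalRing (Localization.AtPrime p) := by
  let X : Polynomial k := Polynomial.X
  let L := Localization.Away X
  letI : Algebra (semiRing k H) L :=
    ((algebraMap (Polynomial k) L).comp (semiRing k H).val.toRingHom).toAlgebra
  have hmap : ∀ r : semiRing k H, algebraMap (semiRing k H) L r = algebraMap (Polynomial k) L r :=
    fun _ => rfl
  have hmon : algebraMap (semiRing k H) L (mon e he 1) = algebraMap (Polynomial k) L X ^ e := by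
    rw [hmap, ← map_pow]
    exact congrArg _ (Polynomial.monomial_one_right_eq_X_pow e)
  have hX : IsUnit (algebraMap (Polynomial k) L X) :=
    IsLocalization.map_units L ⟨X, Submonoid.mem_powers X⟩
  haveI : IsLocalization (Submonoid.powers (mon e he (1 : k))) L := by
    refine (isLocalization_iff _ _).2 ⟨?_, ?_, ?_⟩
    · rintro ⟨_, n, rfl⟩
      change IsUnit (algebraMap (semiRing k H) L (mon e he 1 ^ n))
      rw [map_pow, hmon]
      exact (hX.pow e).pow n
    · intro z
      obtain ⟨⟨q, s⟩, hq⟩ := IsLocalization.surj (Submonoid.powers X) z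
      obtain ⟨_, j, rfl⟩ := s
      -- multiply up to a multiple of `e` beyond `N`
      let m := N + j + 1
      have hqm : ∀ n, (q * X ^ (m * e - j)).coeff n ≠ 0 → n ∈ H := by
        intro n hn
        rw [Polynomial.coeff_mul_X_pow'] at hn
        split_ifs at hn with hle
        · refine hN n (le_trans ?_ hle)
          have h1 : m ≤ m * e := Nat.le_mul_of_pos_right m (Nat.pos_of_ne_zero he0)
          omega
        · exact absurd rfl hn
      refine ⟨⟨⟨q * X ^ (m * e - j), hqm⟩, ⟨mon e he 1 ^ m, m, rfl⟩⟩, ?_⟩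
      change z * algebraMap (semiRing k H) L (mon e he 1 ^ m) =
        algebraMap (Polynomial k) L (q * X ^ (m * e - j))
      rw [map_pow, hmon, map_mul, map_pow, ← pow_mul]
      change z * algebraMap (Polynomial k) L (X ^ j) = _ at hq
      rw [← hq, map_pow, mul_assoc, ← pow_add]
      congr 2
      have h1 : m ≤ e * m := Nat.le_mul_of_pos_left m (Nat.pos_of_ne_zero he0)
      rw [mul_comm m e]
      omega
    · intro x y hxy
      refine ⟨1, ?_⟩
      rw [hmap, hmap] at hxy
      have hinj : Function.Injective (algebraMap (Polynomial k) L) :=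
        IsLocalization.injective L (powers_le_nonZeroDivisors_of_noZeroDivisors Polynomial.X_ne_zero)
      rw [Subtype.ext (hinj hxy)]
  refine gorenstein_atPrime_of_disjoint (Submonoid.powers (mon e he (1 : k))) L
    (Gor.Ring.isGorensteinRing_of_isLocalization (Submonoid.powers X) L
      (Gor.Ring.isGorensteinRing_of_isRegularRing (Polynomial k))) p ?_
  rw [Set.disjoint_left]
  rintro _ ⟨n, rfl⟩ hmem
  exact h (Ideal.IsPrime.mem_of_pow_mem inferInstance n hmem)

variable (k H) in
/-- The quotient by `T^e`. -/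
noncomputable abbrev SQ (he : e ∈ H) : Type u :=
  semiRing k H ⧸ Ideal.span {mon e he (1 : k)}

include he0 in
theorem isLocalRing_SQ : IsLocalRing (SQ k H he) := by
  haveI : (RingHom.ker (aug (k := k) (H := H))).IsMaximal :=
    RingHom.ker_isMaximal_of_surjective _ aug_surjective
  refine IsLocalRing.of_unique_max_ideal
    ⟨(RingHom.ker (aug (k := k) (H := H))).map (Ideal.Quotient.mk _), ?_, fun M hM => ?_⟩
  · exact map_mk_isMaximal (span_le_ker_aug he he0)
  · rw [← eq_ker_aug_of_mem he he0 (M.comap (Ideal.Quotient.mk _)) (by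
      rw [Ideal.mem_comap, Ideal.Quotient.eq_zero_iff_mem.2 (Ideal.mem_span_singleton_self _)]
      exact M.zero_mem), Ideal.map_comap_of_surjective _ Ideal.Quotient.mk_surjective]

variable [IsNoetherianRing (semiRing k H)]

include he0 in
theorem isArtinianRing_SQ : IsArtinianRing (SQ k H he) := by
  refine (isArtinianRing_iff_isNoetherianRing_krullDimLE_zero (R := SQ k H he)).2
    ⟨inferInstance,
    Ring.krullDimLE_zero_iff.2 fun I hI => ?_⟩
  haveI := hI
  have h1 := eq_ker_aug_of_mem he he0 (I.comap (Ideal.Quotient.mk _)) (by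
    rw [Ideal.mem_comap, Ideal.Quotient.eq_zero_iff_mem.2 (Ideal.mem_span_singleton_self _)]
    exact I.zero_mem)
  haveI : (I.comap (Ideal.Quotient.mk (Ideal.span {mon e he (1 : k)}))).IsMaximal :=
    h1 ▸ RingHom.ker_isMaximal_of_surjective _ aug_surjective
  rw [← Ideal.map_comap_of_surjective _ Ideal.Quotient.mk_surjective I]
  exact map_mk_isMaximal (fun x hx => by
      rw [Ideal.mem_comap, Ideal.Quotient.eq_zero_iff_mem.2 hx]; exact I.zero_mem)

variable (k H) in
/-- The socle of the quotient by `T^e`. -/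
noncomputable def socQ (he : e ∈ H) [IsLocalRing (SQ k H he)] : Submodule (SQ k H he) (SQ k H he) :=
  LocCoh.torsionBy (R := SQ k H he) (maximalIdeal (SQ k H he)) (SQ k H he)

set_option maxHeartbeats 1000000 in
include he0 in
/-- The socle of the quotient. -/
theorem mem_socle_iff (q : semiRing k H) :
    haveI := isLocalRing_SQ (k := k) he he0
    Ideal.Quotient.mk (Ideal.span {mon e he (1 : k)}) q ∈ socQ k H he ↔
      ∀ n, (q : Polynomial k).coeff n ≠ 0 → ∀ h ∈ H, h ≠ 0 → ∃ g ∈ H, g + e = n + h := by
  haveI := isLocalRing_SQ (k := k) he he0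
  haveI : (RingHom.ker (aug (k := k) (H := H))).IsMaximal :=
    RingHom.ker_isMaximal_of_surjective _ aug_surjective
  have hmax : maximalIdeal (SQ k H he) =
      (RingHom.ker (aug (k := k) (H := H))).map (Ideal.Quotient.mk _) :=
    (IsLocalRing.eq_maximalIdeal (map_mk_isMaximal (span_le_ker_aug he he0))).symm
  rw [socQ, Submodule.mem_torsionBySet_iff]
  constructor
  · intro hs n hn h hh hh0
    have hmem : Ideal.Quotient.mk (Ideal.span {mon e he (1 : k)}) (mon h hh 1) ∈
        maximalIdeal (SQ k H he) := by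
      rw [hmax]
      refine Ideal.mem_map_of_mem _ ?_
      rw [RingHom.mem_ker, aug_apply]
      change (Polynomial.monomial h (1 : k)).coeff 0 = 0
      rw [Polynomial.coeff_monomial, if_neg hh0]
    have hz : Ideal.Quotient.mk (Ideal.span {mon e he (1 : k)}) (mon h hh 1 * q) = 0 := by
      rw [map_mul]; exact hs ⟨_, hmem⟩
    refine (mem_span_iff he _).1 (Ideal.Quotient.eq_zero_iff_mem.1 hz) (n + h) ?_
    change ((Polynomial.monomial h 1 : Polynomial k) * (q : Polynomial k)).coeff (n + h) ≠ 0
    rwa [Polynomial.coeff_monomial_mul, one_mul]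
  · rintro hs ⟨b, hb⟩
    change b * Ideal.Quotient.mk _ q = 0
    rw [SetLike.mem_coe, hmax] at hb
    obtain ⟨r, hr, rfl⟩ := (Ideal.mem_map_iff_of_surjective _ Ideal.Quotient.mk_surjective).1 hb
    rw [RingHom.mem_ker, aug_apply] at hr
    rw [← map_mul, Ideal.Quotient.eq_zero_iff_mem, mem_span_iff]
    intro n hn
    rw [Subalgebra.coe_mul, Polynomial.coeff_mul] at hn
    obtain ⟨⟨i, j⟩, hij, hne⟩ := Finset.exists_ne_zero_of_sum_ne_zero hn
    have hij' : i + j = n := by simpa using hij
    have hi : i ≠ 0 := fun e0 => left_ne_zero_of_mul hne (by subst e0; exact hr)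
    obtain ⟨g, hg, hge⟩ := hs j (right_ne_zero_of_mul hne) i (r.2 i (left_ne_zero_of_mul hne)) hi
    exact ⟨g, hg, by omega⟩

include he0 hN in
omit [IsNoetherianRing (semiRing k H)] in
/-- The largest degree outside `e + H` is a socle degree. -/
theorem exists_isSocDeg : ∃ n, IsSocDeg H e n := by
  classical
  let T := (Finset.range (N + e + 1)).filter fun n => n ∈ H ∧ ¬ ∃ h ∈ H, h + e = n
  have hbd : ∀ n, n ∈ H → (¬ ∃ h ∈ H, h + e = n) → n ∈ T := fun n hn hne => by
    refine Finset.mem_filter.2 ⟨Finset.mem_range.2 ?_, hn, hne⟩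
    by_contra hc
    exact hne ⟨n - e, hN _ (by omega), by omega⟩
  have h0 : 0 ∈ T := hbd 0 H.zero_mem fun ⟨h, _, hh⟩ => he0 (by omega)
  obtain ⟨n, hnT, hmax⟩ := T.exists_max_image id ⟨0, h0⟩
  have hn := (Finset.mem_filter.1 hnT).2
  refine ⟨n, hn.1, hn.2, fun h hh hh0 => ?_⟩
  by_contra hc
  have := hmax (n + h) (hbd _ (add_mem hn.1 hh) hc)
  simp only [id] at this
  omega

set_option maxHeartbeats 2000000 in
include he0 hN in
/-- The quotient has simple socle iff there is one socle degree. -/
theorem length_socle_eq_one_iff :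
    haveI := isLocalRing_SQ (k := k) he he0
    Module.length (SQ k H he) (socQ k H he) = 1 ↔
      ∀ n n', IsSocDeg H e n → IsSocDeg H e n' → n = n' := by
  haveI := isLocalRing_SQ (k := k) he he0
  set J := Ideal.span {mon e he (1 : k)} with hJ
  set V := socQ k H he with hV
  have hmem : ∀ n (hn : IsSocDeg H e n), Ideal.Quotient.mk J (mon n hn.1 (1 : k)) ∈ V ∧
      Ideal.Quotient.mk J (mon n hn.1 (1 : k)) ≠ 0 := fun n hn => by
    refine ⟨(mem_socle_iff he he0 _).2 fun m hm => ?_, fun h0 => hn.2.1 ?_⟩
    · change (Polynomial.monomial n (1 : k)).coeff m ≠ 0 at hm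
      rw [Polynomial.coeff_monomial] at hm
      split_ifs at hm with h
      · exact h ▸ hn.2.2
      · exact absurd rfl hm
    · refine (mem_span_iff he _).1 (Ideal.Quotient.eq_zero_iff_mem.1 h0) n ?_
      change (Polynomial.monomial n (1 : k)).coeff n ≠ 0
      rw [Polynomial.coeff_monomial_same]
      exact one_ne_zero
  rw [Module.length_eq_one_iff]
  constructor
  · intro hsimp n n' hn hn'
    by_contra hne
    obtain ⟨h1, h1'⟩ := hmem n hn
    obtain ⟨h2, -⟩ := hmem n' hn'
    have hz : (⟨_, h1⟩ : V) ≠ 0 := fun h => h1' (congrArg Subtype.val h)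
    obtain ⟨a, ha⟩ := Submodule.mem_span_singleton.1
      ((IsSimpleModule.span_singleton_eq_top (SQ k H he) hz).ge (Submodule.mem_top : (⟨_, h2⟩ : V) ∈ ⊤))
    obtain ⟨s, rfl⟩ := Ideal.Quotient.mk_surjective a
    have h3 : Ideal.Quotient.mk J s * Ideal.Quotient.mk J (mon n hn.1 1) =
        Ideal.Quotient.mk J (mon n' hn'.1 1) := congrArg Subtype.val ha
    rw [← map_mul] at h3
    have h4 := Ideal.Quotient.eq.1 h3
    refine hn'.2.1 ?_
    by_cases hc : ((s * mon n hn.1 1 : semiRing k H) : Polynomial k).coeff n' = 0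
    · refine (mem_span_iff he _).1 h4 n' ?_
      rw [AddSubgroupClass.coe_sub, Polynomial.coeff_sub, hc, zero_sub, neg_ne_zero]
      change (Polynomial.monomial n' (1 : k)).coeff n' ≠ 0
      rw [Polynomial.coeff_monomial_same]
      exact one_ne_zero
    · change ((s : Polynomial k) * Polynomial.monomial n (1 : k)).coeff n' ≠ 0 at hc
      rw [Polynomial.monomial_one_right_eq_X_pow, Polynomial.coeff_mul_X_pow'] at hc
      split_ifs at hc with hle
      · obtain ⟨g, hg, hge⟩ := hn.2.2 (n' - n) (s.2 _ hc) (by omega)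
        exact ⟨g, hg, by omega⟩
      · exact absurd rfl hc
  · intro huniq
    obtain ⟨n₀, hn₀⟩ := exists_isSocDeg he0 hN
    obtain ⟨h1, h1'⟩ := hmem n₀ hn₀
    haveI : Nontrivial V := ⟨⟨⟨_, h1⟩, 0, fun h => h1' (congrArg Subtype.val h)⟩⟩
    rw [isSimpleModule_iff, isSimpleOrder_iff_isCoatom_bot]
    constructor
    · intro hb
      exact h1' (congrArg Subtype.val ((Submodule.mem_bot (SQ k H he)).1
        (hb.ge (Submodule.mem_top : (⟨_, h1⟩ : V) ∈ ⊤))))
    · intro W hW
      obtain ⟨⟨v, hv⟩, hvW, hv0⟩ := Submodule.exists_mem_ne_zero_of_ne_bot hW.ne'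
      -- every socle element is a multiple of the one monomial
      have hrep : ∀ q : semiRing k H, Ideal.Quotient.mk J q ∈ V → Ideal.Quotient.mk J q =
          Ideal.Quotient.mk J (algebraMap k _ ((q : Polynomial k).coeff n₀)) *
            Ideal.Quotient.mk J (mon n₀ hn₀.1 1) := by
        intro q hq
        rw [← map_mul, Ideal.Quotient.eq, mem_span_iff]
        intro m hm
        by_contra hne
        have hm0 : m ≠ n₀ := by
          rintro rfl
          refine hm ?_
          rw [AddSubgroupClass.coe_sub, Polynomial.coeff_sub, Subalgebra.coe_mul,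
            Subalgebra.coe_algebraMap, Polynomial.algebraMap_apply, Polynomial.coeff_C_mul]
          change (q : Polynomial k).coeff m - (q : Polynomial k).coeff m *
            (Polynomial.monomial m (1 : k)).coeff m = 0
          rw [Polynomial.coeff_monomial_same, mul_one, sub_self]
        have hqm : (q : Polynomial k).coeff m ≠ 0 := by
          intro h0
          refine hm ?_
          rw [AddSubgroupClass.coe_sub, Polynomial.coeff_sub, Subalgebra.coe_mul,
            Subalgebra.coe_algebraMap, Polynomial.algebraMap_apply, Polynomial.coeff_C_mul]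
          change (q : Polynomial k).coeff m - _ * (Polynomial.monomial n₀ (1 : k)).coeff m = 0
          rw [Polynomial.coeff_monomial, if_neg (Ne.symm hm0), mul_zero, h0, sub_zero]
        exact hm0 (huniq m n₀ ⟨q.2 m hqm, hne, (mem_socle_iff he he0 q).1 hq m hqm⟩ hn₀)
      obtain ⟨q, rfl⟩ := Ideal.Quotient.mk_surjective v
      have hq := hrep q hv
      have hc : (q : Polynomial k).coeff n₀ ≠ 0 := fun h0 => hv0 (Subtype.ext (by
        rw [h0, map_zero, map_zero, zero_mul] at hq; exact hq))
      have hz : (⟨_, h1⟩ : V) ∈ W := by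
        have h := W.smul_mem (Ideal.Quotient.mk J (algebraMap k _ ((q : Polynomial k).coeff n₀)⁻¹)) hvW
        convert h using 1
        apply Subtype.ext
        change _ = Ideal.Quotient.mk J _ * Ideal.Quotient.mk J q
        rw [hq, ← map_mul (Ideal.Quotient.mk J), ← map_mul (Ideal.Quotient.mk J), ← mul_assoc,
          ← map_mul (algebraMap k (semiRing k H)), inv_mul_cancel₀ hc, map_one, one_mul]
      rw [eq_top_iff]
      rintro ⟨w, hw⟩ -
      obtain ⟨p, rfl⟩ := Ideal.Quotient.mk_surjective w
      have h := W.smul_mem (Ideal.Quotient.mk J (algebraMap k _ ((p : Polynomial k).coeff n₀))) hz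
      convert h using 1
      exact Subtype.ext (hrep p hw)

include he he0 hN in
omit [IsNoetherianRing (semiRing k H)] in
/-- One socle degree iff symmetric. -/
theorem unique_socDeg_iff_isSymmetric :
    (∀ n n', IsSocDeg H e n → IsSocDeg H e n' → n = n') ↔
      W4c6gradedringsgw.IsSymmetric (H : Set ℕ) := by
  classical
  constructor
  · intro huniq
    obtain ⟨n₀, hn₀⟩ := exists_isSocDeg he0 hN
    refine ⟨(n₀ : ℤ) - e, fun n => ⟨?_, ?_⟩⟩
    · rintro ⟨a, ha, rfl⟩ ⟨b, hb, hba⟩
      exact hn₀.2.1 ⟨a + b, add_mem ha hb, by omega⟩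
    · intro hnd
      by_contra hn
      -- a maximal translate outside `H`
      let T := (Finset.range ((N : ℤ) - n).toNat).filter fun h : ℕ =>
        h ∈ H ∧ ¬ ∃ g ∈ (H : Set ℕ), (g : ℤ) = n + h
      have hbd : ∀ h, h ∈ H → (¬ ∃ g ∈ (H : Set ℕ), (g : ℤ) = n + h) → h ∈ T := fun h hh hne => by
        refine Finset.mem_filter.2 ⟨Finset.mem_range.2 ?_, hh, hne⟩
        by_contra hc
        exact hne ⟨(n + h).toNat, hN _ (by omega), by omega⟩
      have h0T : 0 ∈ T := hbd 0 H.zero_mem (by simpa using hn)
      obtain ⟨h, hhT, hmax⟩ := T.exists_max_image id ⟨0, h0T⟩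
      have hh := (Finset.mem_filter.1 hhT).2
      have hpf : ∀ h', h' ∈ H → h' ≠ 0 → ∃ g ∈ (H : Set ℕ), (g : ℤ) = n + (h + h' : ℕ) := by
        intro h' hh' hh'0
        by_contra hc
        have := hmax (h + h') (hbd _ (add_mem hh.1 hh') hc)
        simp only [id] at this
        omega
      obtain ⟨n₁, hn₁, hn₁e⟩ := hpf e he he0
      have hs : IsSocDeg H e n₁ := by
        refine ⟨hn₁, ?_, fun h' hh' hh'0 => ?_⟩
        · rintro ⟨g, hg, hge⟩
          exact hh.2 ⟨g, hg, by push_cast at hn₁e ⊢; omega⟩
        · obtain ⟨g, hg, hge⟩ := hpf h' hh' hh'0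
          exact ⟨g, hg, by push_cast at hge hn₁e; omega⟩
      have := huniq n₁ n₀ hs hn₀
      exact hnd ⟨h, hh.1, by push_cast at hn₁e; omega⟩
  · rintro ⟨d, hd⟩ n n' hn hn'
    suffices key : ∀ m, IsSocDeg H e m → (m : ℤ) - e = d by
      have := key n hn
      have := key n' hn'
      omega
    intro m hm
    have hnot : ¬ ∃ g ∈ (H : Set ℕ), (g : ℤ) = (m : ℤ) - e := fun ⟨g, hg, hge⟩ =>
      hm.2.1 ⟨g, hg, by omega⟩
    obtain ⟨h, hh, hhd⟩ : ∃ h ∈ (H : Set ℕ), (h : ℤ) = d - ((m : ℤ) - e) := by
      by_contra hc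
      exact hnot ((hd _).2 hc)
    by_contra hne
    obtain ⟨g, hg, hge⟩ := hm.2.2 h hh (by omega)
    exact (hd 0).1 ⟨0, H.zero_mem, rfl⟩ ⟨g, hg, by omega⟩

include he he0 hN in
/-- Kunz's theorem. -/
theorem isGorensteinRing_semiRing_iff :
    LocCoh.IsGorensteinRing (semiRing k H) ↔ W4c6gradedringsgw.IsSymmetric (H : Set ℕ) := by
  rw [← unique_socDeg_iff_isSymmetric he he0 hN, ← length_socle_eq_one_iff (k := k) he he0 hN]
  haveI := isLocalRing_SQ (k := k) he he0
  haveI := isArtinianRing_SQ (k := k) he he0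
  have hreg : IsSMulRegular (semiRing k H) (mon e he (1 : k)) := fun a b hab => by
    refine mul_left_cancel₀ (fun h => ?_) hab
    have := congrArg (fun p : semiRing k H => (p : Polynomial k).coeff e) h
    simp [mon] at this
  constructor
  · intro hG
    haveI := Gor.Ring.gorensteinLocal_of_ring (Gor.Ring.isGorensteinRing_quotient hG hreg)
    obtain ⟨φ, hφ⟩ := Gor.Basic.exists_socle_of_artinian (A := SQ k H he)
    obtain ⟨n, hn⟩ := Gor.Basic.exists_hasInjectiveDimensionLT (A := SQ k H he)
    exact Gor.Basic.length_socle_of_injective hφ (Gor.Basic.injective_of_socle_of_finite_id hφ n hn)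
  · intro hsoc
    haveI := Gor.Basic.gorenstein_of_injective (Gor.Basic.injective_of_simple_socle hsoc)
    have hQ := Gor.Ring.isGorensteinRing_of_local (SQ k H he)
    refine { isGorensteinLocalRing_localization := fun p _ => ?_ }
    by_cases hp : mon e he (1 : k) ∈ p
    · have hJp : Ideal.span {mon e he (1 : k)} ≤ p := (Ideal.span_singleton_le_iff_mem p).2 hp
      haveI : (p.map (Ideal.Quotient.mk (Ideal.span {mon e he (1 : k)}))).IsPrime :=
        Ideal.map_isPrime_of_surjective Ideal.Quotient.mk_surjective (by rwa [Ideal.mk_ker])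
      have h := (gorenstein_atPrime_quotient_iff hreg (p.map (Ideal.Quotient.mk _))).1
        (hQ.isGorensteinLocalRing_localization _)
      have hcm : (p.map (Ideal.Quotient.mk (Ideal.span {mon e he (1 : k)}))).comap
          (Ideal.Quotient.mk _) = p := by
        rw [Ideal.comap_map_of_surjective _ Ideal.Quotient.mk_surjective, ← RingHom.ker_eq_comap_bot,
          Ideal.mk_ker, sup_eq_left]
        exact hJp
      have tr : ∀ (a b : Ideal (semiRing k H)) [a.IsPrime] [b.IsPrime], a = b →
          LocCoh.IsGorensteinLocalRing (Localization.AtPrime a) →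
            LocCoh.IsGorensteinLocalRing (Localization.AtPrime b) := by
        intro a b _ _ hab hG
        subst hab
        exact hG
      exact tr _ p hcm h
    · exact gorenstein_of_notMem he he0 hN p hp

end Groth.Agent.GrSect
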