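import Groth.Agent.GrSect.EmbDim
import Groth.Agent.GrSect.Semigroup
import Mathlib.RingTheory.DedekindDomain.Basic
import Mathlib.RingTheory.FiniteType
import Mathlib.Algebra.Polynomial.Lifts

/-!
# The section ring of a point is Gorenstein iff the Weierstrass semigroup is symmetric
-/

set_option autoImplicit false
set_option linter.style.haveILetI false
set_option linter.unusedSectionVars false
universe u

open FunFld WithZero W4c6gradedringsgw

namespace Groth.Agent.GrSect

variable {k : Type u} [Field k] [IsAlgClosed k] {K : Type u} [Field K] [Algebra k K]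
  (hK : IsFunctionField k K) (P : Place k K)

/-- The functions regular away from `P`. -/
noncomputable def affRing : Subalgebra k K where
  carrier := {x | ∀ Q, Q ≠ P → Q.1 x ≤ 1}
  mul_mem' {x y} hx hy Q hQ := by
    rw [map_mul]
    exact (mul_le_mul' (hx Q hQ) (hy Q hQ)).trans_eq (one_mul 1)
  add_mem' {x y} hx hy Q hQ := (Q.1.map_add x y).trans (max_le (hx Q hQ) (hy Q hQ))
  algebraMap_mem' c Q _ := Q.2.1 c

theorem exists_mem_L (x : affRing P) : ∃ n : ℕ, (x : K) ∈ L ((n : ℤ) • D P) := by
  by_cases hx : (x : K) = 0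
  · exact ⟨0, by rw [hx]; exact zero_mem _⟩
  · refine ⟨(-(P.ord (x : K))).toNat, (mem_L_iff P _ _).2 ⟨x.2, ?_⟩⟩
    rw [FF.val_le_exp_iff P hx]
    omega

theorem isIntegrallyClosed_affRing : IsIntegrallyClosed (affRing P) := by
  rw [isIntegrallyClosed_iff (FractionRing (affRing P))]
  intro y hy
  let φ : FractionRing (affRing P) →ₐ[affRing P] K :=
    IsFractionRing.liftAlgHom (g := Algebra.ofId (affRing P) K) Subtype.val_injective
  have hmem : φ y ∈ affRing P := by
    intro Q hQ
    let incl : affRing P →+* Q.O :=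
      (affRing P).val.toRingHom.codRestrict Q.O fun a => (FF.mem_O Q).2 (a.2 Q hQ)
    obtain ⟨p, hp, hpy⟩ := hy.map φ
    have h : IsIntegral Q.O (φ y) := by
      refine ⟨p.map incl, hp.map incl, ?_⟩
      rw [Polynomial.eval₂_map]
      exact hpy
    obtain ⟨z, hz⟩ := IsIntegrallyClosed.isIntegral_iff.1 h
    rw [← hz]
    exact (FF.mem_O Q).1 z.2
  exact ⟨⟨φ y, hmem⟩, φ.injective ((φ.commutes _).trans rfl)⟩

include hK

/-- An element of `A` with a pole at `P`. -/
theorem exists_pos_poleOrder : ∃ m : ℕ, 0 < m ∧ m ∈ poleOrders P := by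
  obtain ⟨N, hN⟩ := exists_mem_poleOrders hK P
  exact ⟨N + 1, Nat.succ_pos N, hN _ (Nat.le_succ N)⟩

/-- `A/aA` is finite-dimensional. -/
theorem exists_finite_quotient {a : affRing P} (ha : a ≠ 0) :
    ∃ W : Submodule k (affRing P), Module.Finite k W ∧
      ∀ x : affRing P, ∃ y : affRing P, x - a * y ∈ W := by
  obtain ⟨N, hN⟩ := exists_mem_poleOrders hK P
  obtain ⟨π, hπ⟩ := FF.exists_uniformizer P
  have ha0 : (a : K) ≠ 0 := fun h => ha (Subtype.ext h)
  -- `v_P a = exp m`, `m ≥ 0`
  obtain ⟨m, hm⟩ : ∃ m : ℕ, P.1 (a : K) = exp (m : ℤ) := by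
    obtain ⟨n, hn⟩ := exists_mem_L P a
    refine ⟨(-(P.ord (a : K))).toNat, ?_⟩
    rw [FF.val_eq_exp_ord P ha0]
    congr 1
    have : 0 ≤ -(P.ord (a : K)) := by
      by_contra hneg
      have h : (a : K) ∈ L ((-1 : ℤ) • D P) := (mem_L_iff P _ _).2 ⟨a.2, by
        rw [FF.val_le_exp_iff P ha0]; omega⟩
      rw [FF.L_eq_bot_of_deg_neg hK (by
        rw [FF.deg_zsmul, FF.deg_single, FF.deg_eq_one hK P]; norm_num)] at h
      exact ha0 ((Submodule.mem_bot k).1 h)
    omega
  let B := N + m
  haveI := FF.finiteDimensional_L hK ((B : ℤ) • D P)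
  let W : Submodule k (affRing P) := (L ((B : ℤ) • D P)).comap (affRing P).val.toLinearMap
  haveI : Module.Finite k W := Module.Finite.of_injective
    (((affRing P).val.toLinearMap.restrict (q := L ((B : ℤ) • D P)) fun x hx => hx))
    (fun x y h => Subtype.ext (Subtype.ext (congrArg Subtype.val h :)))
  refine ⟨W, inferInstance, ?_⟩
  suffices key : ∀ (j : ℕ) (x : affRing P), (x : K) ∈ L (((B + j : ℕ) : ℤ) • D P) →
      ∃ y : affRing P, x - a * y ∈ W by
    intro x
    obtain ⟨n, hn⟩ := exists_mem_L P x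
    exact key n x (L_mono_int P (by push_cast; omega) hn)
  intro j
  induction j with
  | zero => exact fun x hx => ⟨0, by rw [mul_zero, sub_zero]; exact hx⟩
  | succ j ih =>
    intro x hx
    set M : ℤ := ((B + (j + 1) : ℕ) : ℤ) with hM
    obtain ⟨y₀, hy₀, hy₀v⟩ := (mem_poleOrders_iff hK P (N + (j + 1))).1 (hN _ (by omega))
    let y : affRing P := ⟨y₀, ((mem_L_iff P _ _).1 hy₀).1⟩
    have hay : P.1 ((a : K) * y₀) = exp M := by
      rw [map_mul, hm, hy₀v, ← exp_add]
      congr 1
      rw [hM]
      push_cast [B]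
      ring
    have hxv := ((mem_L_iff P _ _).1 hx).2
    have hc0 : chi P π M ((a : K) * y₀) ≠ 0 := fun h => by
      have := (chi_eq_zero_iff hK P π hπ hay.le).1 h
      rw [hay, exp_le_exp] at this
      omega
    let c := chi P π M (x : K) / chi P π M ((a : K) * y₀)
    have hv : P.1 (c • ((a : K) * y₀)) ≤ exp M := (FF.val_smul_le P c _).trans hay.le
    have hv2 : P.1 ((x : K) - c • ((a : K) * y₀)) ≤ exp M :=
      (P.1.map_sub _ _).trans (max_le hxv hv)
    have hchi : chi P π M (c • ((a : K) * y₀)) = chi P π M (x : K) := by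
      rw [Algebra.smul_def]
      have h := chi_mul hK P π hπ (m := 0) (n := M) (x := algebraMap k K c) (y := (a : K) * y₀)
        (by rw [exp_zero]; exact P.2.1 c) hay.le
      rw [zero_add] at h
      rw [h, chi_const hK P π hπ, div_mul_cancel₀ _ hc0]
    have hlow : P.1 ((x : K) - c • ((a : K) * y₀)) ≤ exp (M - 1) := by
      rw [← chi_eq_zero_iff hK P π hπ hv2]
      have h := chi_add hK P π hπ hv2 hv
      rw [sub_add_cancel, hchi] at h
      exact right_eq_add.1 h
    have hmemA : ∀ Q, Q ≠ P → Q.1 ((x : K) - c • ((a : K) * y₀)) ≤ 1 :=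
      (x - c • (a * y)).2
    obtain ⟨z, hz⟩ := ih (x - c • (a * y)) ((mem_L_iff P _ _).2 ⟨hmemA, by
      refine hlow.trans (exp_le_exp.2 ?_)
      rw [hM]; push_cast; omega⟩)
    refine ⟨c • y + z, ?_⟩
    rwa [mul_add, mul_smul_comm, ← sub_sub]

/-- `R → A`, `p ↦ ∑ p_n`. -/
noncomputable def evalOne : SR P →ₐ[k] affRing P :=
  (((Polynomial.aeval (R := K) (1 : K)).restrictScalars k).comp (SR P).val).codRestrict (affRing P)
    fun p => by
      change Polynomial.eval₂ (algebraMap K K) 1 (p : Polynomial K) ∈ affRing P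
      rw [Polynomial.eval₂_eq_sum, Polynomial.sum]
      refine sum_mem fun n _ => ?_
      rw [one_pow, mul_one]
      exact ((mem_L_iff P _ _).1 (p.2 n)).1

theorem evalOne_surjective : Function.Surjective (evalOne P : SR P → affRing P) := by
  intro x
  obtain ⟨n, hn⟩ := exists_mem_L P x
  refine ⟨mono P n x hn, Subtype.ext ?_⟩
  change Polynomial.aeval (1 : K) (Polynomial.monomial n (x : K)) = x
  simp

open Classical in
/-- The section ring is a finitely generated algebra. -/
theorem finiteType_SR : Algebra.FiniteType k (SR P) := by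
  obtain ⟨π, hπ⟩ := FF.exists_uniformizer P
  have hfin := finite_minGens hK P
  have hgen : ∀ h ∈ minGens (poleOrders P), ∃ x : K, ∃ hx : x ∈ L ((h : ℤ) • D P), P.1 x = exp (h : ℤ) :=
    fun h hh => by
      obtain ⟨x, hx, hv⟩ := (mem_poleOrders_iff hK P h).1 hh.1
      exact ⟨x, hx, hv⟩
  choose f hf hfv using hgen
  let g : ↥(hfin.toFinset) → SR P := fun h =>
    mono P h.1 (f h.1 (hfin.mem_toFinset.1 h.2)) (hf h.1 (hfin.mem_toFinset.1 h.2))
  let s : Finset (SR P) := insert (tEl P) (Finset.univ.image g)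
  refine ⟨⟨s, eq_top_iff.2 fun p _ => ?_⟩⟩
  suffices key : ∀ (n : ℕ) (x : K) (hx : x ∈ L ((n : ℤ) • D P)),
      mono P n x hx ∈ Algebra.adjoin k (s : Set (SR P)) by
    rw [coe_eq_sum P p]
    exact sum_mem fun n _ => key n _ _
  intro n
  induction n using Nat.strong_induction_on with
  | _ n ih =>
  have hlow : ∀ (x : K) (hx : x ∈ L ((n : ℤ) • D P)), 1 ≤ n →
      P.1 x ≤ exp ((n : ℤ) - 1) → mono P n x hx ∈ Algebra.adjoin k (s : Set (SR P)) := by
    intro x hx hn hv
    obtain ⟨m, rfl⟩ : ∃ m, n = m + 1 := ⟨n - 1, by omega⟩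
    have hx' : x ∈ L ((m : ℤ) • D P) := (mem_L_iff P _ _).2
      ⟨((mem_L_iff P _ _).1 hx).1, by simpa using hv⟩
    have e : mono P (m + 1) x hx = mono P m x hx' * tEl P := by
      apply Subtype.ext
      change Polynomial.monomial (m + 1) x = Polynomial.monomial m x * Polynomial.monomial 1 1
      rw [Polynomial.monomial_mul_monomial, mul_one]
    rw [e]
    exact mul_mem (ih m (by omega) x hx') (Algebra.subset_adjoin (Finset.mem_insert_self _ _))
  intro x hx
  rcases Nat.eq_zero_or_pos n with rfl | hn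
  · obtain ⟨c, rfl⟩ := exists_const hK P (by simpa using hx)
    have e : mono P 0 (algebraMap k K c) hx = algebraMap k (SR P) c :=
      Subtype.ext (by
        change Polynomial.monomial 0 (algebraMap k K c) = algebraMap k (Polynomial K) c
        simp [Polynomial.algebraMap_apply])
    rw [e]
    exact Subalgebra.algebraMap_mem _ c
  by_cases hv : P.1 x ≤ exp ((n : ℤ) - 1)
  · exact hlow x hx hn hv
  · have hnH : n ∈ poleOrders P := (mem_poleOrders_iff hK P n).2 ⟨x, hx,
      le_antisymm ((mem_L_iff P _ _).1 hx).2 (not_lt.1 fun hlt => hv ((FF.lt_exp_iff _ _).1 hlt))⟩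
    obtain ⟨h, hh, b, hb, rfl⟩ := exists_minGen_add hK P n hnH (by omega)
    obtain ⟨y, hy, hyv⟩ := (mem_poleOrders_iff hK P b).1 hb
    let x₀ := f h hh * y
    have hx₀ : x₀ ∈ L (((h + b : ℕ) : ℤ) • D P) := by
      rw [Nat.cast_add, add_smul]
      exact mul_mem_L (hf h hh) hy
    have hx₀v : P.1 x₀ = exp ((h + b : ℕ) : ℤ) := by
      rw [map_mul, hfv h hh, hyv, ← exp_add, Nat.cast_add]
    have hc0 : chi P π ((h + b : ℕ) : ℤ) x₀ ≠ 0 := fun hz => by
      have := (chi_eq_zero_iff hK P π hπ hx₀v.le).1 hz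
      rw [hx₀v, exp_le_exp] at this
      omega
    let c := chi P π ((h + b : ℕ) : ℤ) x / chi P π ((h + b : ℕ) : ℤ) x₀
    have hrest : x - c • x₀ ∈ L (((h + b : ℕ) : ℤ) • D P) := sub_mem hx (Submodule.smul_mem _ _ hx₀)
    have hv₀ : P.1 (c • x₀) ≤ exp ((h + b : ℕ) : ℤ) :=
      ((mem_L_iff P _ _).1 (Submodule.smul_mem _ c hx₀)).2
    have hchi : chi P π ((h + b : ℕ) : ℤ) (c • x₀) = chi P π ((h + b : ℕ) : ℤ) x := by
      rw [Algebra.smul_def]
      have hm := chi_mul hK P π hπ (m := 0) (n := ((h + b : ℕ) : ℤ)) (x := algebraMap k K c) (y := x₀)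
        (by rw [exp_zero]; exact P.2.1 c) hx₀v.le
      rw [zero_add] at hm
      rw [hm, chi_const hK P π hπ, div_mul_cancel₀ _ hc0]
    have hrv : P.1 (x - c • x₀) ≤ exp (((h + b : ℕ) : ℤ) - 1) := by
      rw [← chi_eq_zero_iff hK P π hπ ((mem_L_iff P _ _).1 hrest).2]
      have ha := chi_add hK P π hπ ((mem_L_iff P _ _).1 hrest).2 hv₀
      rw [sub_add_cancel, hchi] at ha
      exact right_eq_add.1 ha
    have e : mono P (h + b) x hx = mono P (h + b) (x - c • x₀) hrest +
        mono P h (f h hh) (hf h hh) * mono P b (c • y) (Submodule.smul_mem _ c hy) := by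
      apply Subtype.ext
      change Polynomial.monomial (h + b) x = Polynomial.monomial (h + b) (x - c • x₀) +
        Polynomial.monomial h (f h hh) * Polynomial.monomial b (c • y)
      rw [Polynomial.monomial_mul_monomial, ← map_add, mul_smul_comm, sub_add_cancel]
    have hpos : 0 < h := Nat.pos_of_ne_zero hh.2.1
    rw [e]
    exact add_mem (hlow _ hrest hn hrv) (mul_mem
      (Algebra.subset_adjoin (Finset.mem_insert_of_mem
        (Finset.mem_image.2 ⟨⟨h, hfin.mem_toFinset.2 hh⟩, Finset.mem_univ _, rfl⟩)))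
      (ih b (by omega) _ _))

theorem isNoetherianRing_SR : IsNoetherianRing (SR P) :=
  haveI := finiteType_SR hK P
  Algebra.FiniteType.isNoetherianRing k (SR P)

theorem isDedekindDomain_affRing : IsDedekindDomain (affRing P) := by
  haveI := isNoetherianRing_SR hK P
  haveI : IsNoetherianRing (affRing P) :=
    isNoetherianRing_of_surjective (SR P) (affRing P) (evalOne P).toRingHom (evalOne_surjective hK P)
  haveI := isIntegrallyClosed_affRing P
  haveI : Ring.DimensionLEOne (affRing P) := ⟨fun {p} hp0 hp => by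
    obtain ⟨a, ha, ha0⟩ := Submodule.exists_mem_ne_zero_of_ne_bot hp0
    obtain ⟨W, hW, hall⟩ := exists_finite_quotient hK P ha0
    haveI := hW
    haveI := hp
    let q : W →ₗ[k] (affRing P) ⧸ p := (Ideal.Quotient.mkₐ k p).toLinearMap ∘ₗ W.subtype
    haveI : Module.Finite k ((affRing P) ⧸ p) := Module.Finite.of_surjective q fun z => by
      obtain ⟨x, rfl⟩ := Ideal.Quotient.mk_surjective z
      obtain ⟨y, hy⟩ := hall x
      refine ⟨⟨x - a * y, hy⟩, ?_⟩
      change Ideal.Quotient.mk p (x - a * y) = Ideal.Quotient.mk p x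
      rw [map_sub, map_mul, Ideal.Quotient.eq_zero_iff_mem.2 ha, zero_mul, sub_zero]
    haveI : IsArtinianRing ((affRing P) ⧸ p) := IsArtinianRing.of_finite k _
    exact Ideal.Quotient.maximal_of_isField p (IsArtinianRing.isField_of_isDomain _)⟩
  exact { }

/-- Away from `(T)` the section ring is Gorenstein. -/
theorem gorenstein_SR_of_notMem (p : Ideal (SR P)) [p.IsPrime] (hp : tEl P ∉ p) :
    LocCoh.IsGorensteinLocalRing (Localization.AtPrime p) := by
  classical
  haveI := isDedekindDomain_affRing hK P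
  let A := affRing P
  have hmem : ∀ q : SR P, ∃ q' : Polynomial A, q'.map A.val.toRingHom = (q : Polynomial K) := fun q =>
    (Polynomial.mem_lifts _).1 ((Polynomial.lifts_iff_coeff_lifts _).2 fun n =>
      ⟨⟨(q : Polynomial K).coeff n, ((mem_L_iff P _ _).1 (q.2 n)).1⟩, rfl⟩)
  choose ι hι using hmem
  have hmi : Function.Injective (Polynomial.map A.val.toRingHom) :=
    Polynomial.map_injective _ Subtype.val_injective
  let ιh : SR P →+* Polynomial A :=
    { toFun := ι
      map_one' := hmi (by rw [hι, Polynomial.map_one]; rfl)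
      map_zero' := hmi (by rw [hι, Polynomial.map_zero]; rfl)
      map_add' := fun u v => hmi (by rw [hι, Polynomial.map_add, hι, hι]; rfl)
      map_mul' := fun u v => hmi (by rw [hι, Polynomial.map_mul, hι, hι]; rfl) }
  let L := Localization.Away (Polynomial.X : Polynomial A)
  letI : Algebra (SR P) L := ((algebraMap (Polynomial A) L).comp ιh).toAlgebra
  have hT : ι (tEl P) = Polynomial.X := hmi (by
    rw [hι, Polynomial.map_X]
    exact Polynomial.monomial_one_one_eq_X)
  have hinjL : Function.Injective (algebraMap (Polynomial A) L) :=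
    IsLocalization.injective L (powers_le_nonZeroDivisors_of_noZeroDivisors Polynomial.X_ne_zero)
  haveI : IsLocalization (Submonoid.powers (tEl P)) L := by
    refine (isLocalization_iff _ _).2 ⟨?_, ?_, ?_⟩
    · rintro ⟨_, n, rfl⟩
      change IsUnit (algebraMap (Polynomial A) L (ιh (tEl P ^ n)))
      rw [map_pow]
      change IsUnit (algebraMap (Polynomial A) L (ι (tEl P) ^ n))
      rw [hT]
      exact IsLocalization.map_units L
        (⟨Polynomial.X ^ n, n, rfl⟩ : Submonoid.powers (Polynomial.X : Polynomial A))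
    · intro z
      obtain ⟨⟨q, s⟩, hq⟩ := IsLocalization.surj (Submonoid.powers (Polynomial.X : Polynomial A)) z
      obtain ⟨_, j, rfl⟩ := s
      choose d hd using fun n => exists_mem_L P (q.coeff n)
      let M := q.support.sup d
      let r : SR P := ⟨(q * Polynomial.X ^ M).map A.val.toRingHom, fun n => by
        rw [Polynomial.coeff_map, Polynomial.coeff_mul_X_pow']
        split_ifs with hle
        · by_cases h0 : q.coeff (n - M) = 0
          · rw [h0, map_zero]; exact zero_mem _
          · refine L_mono_int P ?_ (hd (n - M))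
            have h1 : d (n - M) ≤ M := Finset.le_sup (Polynomial.mem_support_iff.2 h0)
            exact_mod_cast h1.trans hle
        · rw [map_zero]; exact zero_mem _⟩
      refine ⟨⟨r, ⟨tEl P ^ (j + M), j + M, rfl⟩⟩, ?_⟩
      change z * algebraMap (Polynomial A) L (ιh (tEl P ^ (j + M))) = algebraMap (Polynomial A) L (ι r)
      rw [map_pow]
      change z * algebraMap (Polynomial A) L (ι (tEl P) ^ (j + M)) = _
      rw [hT, hmi (hι r), pow_add, map_mul, ← mul_assoc]
      change z * algebraMap (Polynomial A) L (Polynomial.X ^ j) = _ at hq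
      rw [hq, map_mul]
    · intro x y hxy
      refine ⟨1, ?_⟩
      have h : ι x = ι y := hinjL hxy
      have h2 : x = y := Subtype.ext (by rw [← hι x, ← hι y, h])
      rw [h2]
  refine gorenstein_atPrime_of_disjoint (Submonoid.powers (tEl P)) L
    (Gor.Ring.isGorensteinRing_of_isLocalization (Submonoid.powers Polynomial.X) L
      (Gor.Ring.isGorensteinRing_of_isRegularRing (Polynomial A))) p ?_
  rw [Set.disjoint_left]
  rintro _ ⟨n, rfl⟩ hmem
  exact hp (Ideal.IsPrime.mem_of_pow_mem inferInstance n hmem)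

/-- The section ring is Gorenstein iff the Weierstrass semigroup is symmetric. -/
theorem isGorensteinRing_SR_iff (hg : 1 ≤ genus k K) :
    LocCoh.IsGorensteinRing (SR P) ↔ IsSymmetric (poleOrders P) := by
  obtain ⟨π, hπ⟩ := FF.exists_uniformizer P
  haveI := isNoetherianRing_SR hK P
  let H := AddSubmonoid.closure (poleOrders P)
  have hH : (H : Set ℕ) = poleOrders P := closure_poleOrders hK P
  obtain ⟨N, hN⟩ := exists_mem_poleOrders hK P
  obtain ⟨e, he0, he⟩ := exists_pos_poleOrder hK P
  have ht : ((tEl P : SR P) : Polynomial K) = Polynomial.C 1 * Polynomial.X := by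
    rw [map_one, one_mul]
    exact Polynomial.monomial_one_one_eq_X
  have hker := ker_psi hK P hg hπ one_ne_zero ht
  have hrange : (psi hK P π hπ).range = semiRing k H := by
    ext q
    rw [mem_range_psi_iff hK P hπ]
    exact ⟨fun h n hn => (hH.ge (h n (Polynomial.mem_support_iff.2 hn))),
      fun h n hn => hH.le (h n (Polynomial.mem_support_iff.1 hn))⟩
  let e1 : (SR P ⧸ Ideal.span {tEl P}) ≃+* semiRing k H :=
    ((Ideal.quotEquivOfEq hker.symm).trans ((Ideal.quotEquivOfEq
      (RingHom.ker_rangeRestrict (psi hK P π hπ).toRingHom).symm).trans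
        (RingHom.quotientKerEquivOfSurjective (f := (psi hK P π hπ).rangeRestrict.toRingHom)
          (psi hK P π hπ).rangeRestrict_surjective))).trans
      (Subalgebra.equivOfEq _ _ hrange).toRingEquiv
  haveI : IsNoetherianRing (semiRing k H) :=
    isNoetherianRing_of_ringEquiv (SR P ⧸ Ideal.span {tEl P}) e1
  rw [← hH, ← isGorensteinRing_semiRing_iff (k := k) (hH.ge he) he0.ne' (fun n hn => hH.ge (hN n hn))]
  have hreg : IsSMulRegular (SR P) (tEl P) := fun a b hab => by
    refine mul_left_cancel₀ (fun h => ?_) hab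
    have := congrArg (fun p : SR P => (p : Polynomial K).coeff 1) h
    simp [tEl, mono] at this
  constructor
  · exact fun hR => Gor.Ring.isGorensteinRing_of_ringEquiv e1 (Gor.Ring.isGorensteinRing_quotient hR hreg)
  · intro hS
    have hQ := Gor.Ring.isGorensteinRing_of_ringEquiv (B := SR P ⧸ Ideal.span {tEl P}) e1.symm hS
    refine { isGorensteinLocalRing_localization := fun p _ => ?_ }
    by_cases hp : tEl P ∈ p
    · have hJp : Ideal.span {tEl P} ≤ p := (Ideal.span_singleton_le_iff_mem p).2 hp
      haveI : (p.map (Ideal.Quotient.mk (Ideal.span {tEl P}))).IsPrime :=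
        Ideal.map_isPrime_of_surjective Ideal.Quotient.mk_surjective (by rwa [Ideal.mk_ker])
      have h := (gorenstein_atPrime_quotient_iff hreg (p.map (Ideal.Quotient.mk _))).1
        (hQ.isGorensteinLocalRing_localization _)
      have hcm : (p.map (Ideal.Quotient.mk (Ideal.span {tEl P}))).comap
          (Ideal.Quotient.mk _) = p := by
        rw [Ideal.comap_map_of_surjective _ Ideal.Quotient.mk_surjective, ← RingHom.ker_eq_comap_bot,
          Ideal.mk_ker, sup_eq_left]
        exact hJp
      have tr : ∀ (a b : Ideal (SR P)) [a.IsPrime] [b.IsPrime], a = b →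
          LocCoh.IsGorensteinLocalRing (Localization.AtPrime a) →
            LocCoh.IsGorensteinLocalRing (Localization.AtPrime b) := by
        intro a b _ _ hab hG
        subst hab
        exact hG
      exact tr _ p hcm h
    · exact gorenstein_SR_of_notMem hK P p hp

end Groth.Agent.GrSect
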