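import Groth.Prelude.Def_W4c6gradedringsgwSect
import Groth.Agent.FF.Linear
import Mathlib.RingTheory.Ideal.Quotient.Operations
import Mathlib.Algebra.MonoidAlgebra.Basic

/-!
# The section ring of a rational point and its Weierstrass semigroup

* `chi P π n`: the leading coefficient at `P` on `L(nP)`;
* `psi`: `R_{X,P} → k[T]`, with kernel `(T)` and image the semigroup algebra;
* generators of the semigroup: `minGens`.
-/

set_option autoImplicit false
set_option linter.style.haveILetI false
set_option linter.unusedSectionVars false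
universe u

open FunFld WithZero W4c6gradedringsgw

namespace Groth.Agent.GrSect

variable {k : Type u} [Field k] [IsAlgClosed k] {K : Type u} [Field K] [Algebra k K]
  (hK : IsFunctionField k K) (P : Place k K)

/-- The divisor `P`. -/
noncomputable abbrev D : Divisor k K := Finsupp.single P 1

theorem mem_L_iff (n : ℤ) (x : K) :
    x ∈ L (n • D P) ↔ (∀ Q, Q ≠ P → Q.1 x ≤ 1) ∧ P.1 x ≤ exp n := by
  classical
  constructor
  · intro h
    refine ⟨fun Q hQ => ?_, ?_⟩
    · simpa [Finsupp.single_eq_of_ne hQ] using h Q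
    · simpa using h P
  · rintro ⟨h1, h2⟩ Q
    by_cases hQ : Q = P
    · subst hQ; simpa using h2
    · simpa [Finsupp.single_eq_of_ne hQ] using h1 Q hQ

theorem L_mono_int {m n : ℤ} (h : m ≤ n) : L (m • D P) ≤ L (n • D P) := fun x hx => by
  rw [mem_L_iff] at hx ⊢
  exact ⟨hx.1, hx.2.trans (exp_le_exp.2 h)⟩

theorem sub_single (n : ℤ) : n • D P - Finsupp.single P 1 = (n - 1) • D P := by
  rw [sub_smul, one_smul]

include hK

theorem mem_poleOrders_iff (n : ℕ) :
    n ∈ poleOrders P ↔ ∃ x : K, x ∈ L ((n : ℤ) • D P) ∧ P.1 x = exp (n : ℤ) := by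
  have h1 := FF.ell_sub_single_le hK ((n : ℤ) • D P) P
  have h2 := FF.ell_lt_iff_exists hK ((n : ℤ) • D P) P
  rw [sub_single, FF.deg_eq_one hK P] at h1
  rw [sub_single] at h2
  have hv : ((n : ℤ) • D P) P = (n : ℤ) := by simp
  rw [hv] at h2
  rw [← h2]
  change ell ((n : ℤ) • D P) = ell (((n : ℤ) - 1) • D P) + 1 ↔ _
  omega

theorem add_mem_poleOrders {a b : ℕ} (ha : a ∈ poleOrders P) (hb : b ∈ poleOrders P) :
    a + b ∈ poleOrders P := by
  obtain ⟨x, hx, hxv⟩ := (mem_poleOrders_iff hK P a).1 ha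
  obtain ⟨y, hy, hyv⟩ := (mem_poleOrders_iff hK P b).1 hb
  refine (mem_poleOrders_iff hK P _).2 ⟨x * y, ?_, by rw [map_mul, hxv, hyv, ← exp_add, Nat.cast_add]⟩
  rw [Nat.cast_add, add_smul]
  exact mul_mem_L hx hy

theorem zero_mem_poleOrders : 0 ∈ poleOrders P :=
  (mem_poleOrders_iff hK P 0).2 ⟨1, by
    rw [Nat.cast_zero, mem_L_iff]; exact ⟨fun Q _ => (map_one Q.1).le, (map_one P.1).le⟩,
    by rw [map_one, Nat.cast_zero, exp_zero]⟩

theorem closure_poleOrders : (AddSubmonoid.closure (poleOrders P) : Set ℕ) = poleOrders P := by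
  refine Set.Subset.antisymm (fun n hn => ?_) AddSubmonoid.subset_closure
  induction hn using AddSubmonoid.closure_induction with
  | mem x hx => exact hx
  | zero => exact zero_mem_poleOrders hK P
  | add x y _ _ hx hy => exact add_mem_poleOrders hK P hx hy

theorem exists_const {x : K} (hx : x ∈ L ((0 : ℤ) • D P)) : ∃ c : k, algebraMap k K c = x := by
  rw [zero_smul, FF.L_zero hK] at hx
  exact Submodule.mem_one.1 hx

variable (hg : 1 ≤ genus k K)

include hg in
theorem L_one : L ((1 : ℤ) • D P) = L ((0 : ℤ) • D P) := by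
  haveI := FF.finiteDimensional_L hK ((1 : ℤ) • D P)
  symm
  refine Submodule.eq_of_le_of_finrank_le (L_mono_int P zero_le_one) ?_
  change ell _ ≤ ell _
  rw [one_smul, zero_smul, FF.ell_single_one hK hg (FF.deg_eq_one hK P), FF.ell_zero hK]

include hg in
theorem one_notMem_poleOrders : 1 ∉ poleOrders P := by
  intro h
  obtain ⟨x, hx, hv⟩ := (mem_poleOrders_iff hK P 1).1 h
  rw [Nat.cast_one, L_one hK P hg, mem_L_iff] at hx
  rw [Nat.cast_one] at hv
  rw [hv, exp_le_exp] at hx
  omega

/-- All large integers are pole orders. -/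
theorem exists_mem_poleOrders : ∃ N : ℕ, ∀ n, N ≤ n → n ∈ poleOrders P := by
  refine ⟨2 * genus k K + 1, fun n hn => ?_⟩
  have hd : ∀ m : ℤ, (m • D P).deg = m := fun m => by
    rw [FF.deg_zsmul, FF.deg_single, FF.deg_eq_one hK P]; simp
  have e1 := FF.ell_eq_of_deg_ge hK (D := (n : ℤ) • D P) (by rw [hd]; omega)
  have e2 := FF.ell_eq_of_deg_ge hK (D := ((n : ℤ) - 1) • D P) (by rw [hd]; omega)
  rw [hd] at e1 e2
  change ell ((n : ℤ) • D P) = ell (((n : ℤ) - 1) • D P) + 1
  omega

theorem finite_minGens : (minGens (poleOrders P)).Finite := by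
  obtain ⟨N, hN⟩ := exists_mem_poleOrders hK P
  refine (Set.finite_Iio (2 * N + 2)).subset fun n hn => ?_
  by_contra hc
  simp only [Set.mem_Iio, not_lt] at hc
  exact hn.2.2 (N + 1) (hN _ (by omega)) (n - (N + 1)) (hN _ (by omega)) (by omega) (by omega)
    (by omega)

/-- Every nonzero pole order is a minimal generator plus a pole order. -/
theorem exists_minGen_add (n : ℕ) (hn : n ∈ poleOrders P) (h0 : n ≠ 0) :
    ∃ h ∈ minGens (poleOrders P), ∃ b ∈ poleOrders P, h + b = n := by
  induction n using Nat.strong_induction_on with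
  | _ n ih =>
  by_cases hmin : n ∈ minGens (poleOrders P)
  · exact ⟨n, hmin, 0, zero_mem_poleOrders hK P, rfl⟩
  · obtain ⟨a, ha, b, hb, ha0, hb0, hab⟩ : ∃ a ∈ poleOrders P, ∃ b ∈ poleOrders P,
        a ≠ 0 ∧ b ≠ 0 ∧ a + b = n := by
      by_contra hc
      push Not at hc
      exact hmin ⟨hn, h0, fun a ha b hb ha0 hb0 => hc a ha b hb ha0 hb0⟩
    obtain ⟨h, hh, c, hc, hhc⟩ := ih a (by omega) ha ha0
    exact ⟨h, hh, c + b, add_mem_poleOrders hK P hc hb, by omega⟩

omit hK

section Chi

variable (π : K)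

open Classical in
/-- The leading coefficient `x π^n (P)`. -/
noncomputable def chi (n : ℤ) (x : K) : k :=
  if h : ∃ c : k, P.1 (x * π ^ n - algebraMap k K c) < 1 then h.choose else 0

theorem val_const_eq_zero {c : k} (h : P.1 (algebraMap k K c) < 1) : c = 0 := by
  by_contra hc
  rw [FF.val_const P hc] at h
  exact lt_irrefl _ h

variable (hπ : P.1 π = exp (-1 : ℤ))

include hπ

theorem val_mul_zpow (x : K) (n : ℤ) : P.1 (x * π ^ n) = P.1 x * exp (-n) := by
  rw [map_mul, map_zpow₀, hπ, ← exp_zsmul]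
  simp

include hK in
theorem exists_lead {n : ℤ} {x : K} (hx : P.1 x ≤ exp n) :
    ∃ c : k, P.1 (x * π ^ n - algebraMap k K c) < 1 := by
  have hO : P.1 (x * π ^ n) ≤ 1 := by
    rw [val_mul_zpow P π hπ]
    calc P.1 x * exp (-n) ≤ exp n * exp (-n) := mul_le_mul_left hx _
      _ = 1 := by rw [← exp_add, add_neg_cancel, exp_zero]
  haveI : Algebra.IsIntegral k (IsLocalRing.ResidueField P.O) :=
    @Algebra.IsIntegral.of_finite k _ _ _ _ (FF.finiteDimensional_residueField hK P)
  obtain ⟨c, hc⟩ := (IsAlgClosed.algebraMap_bijective_of_isIntegral (k := k)).2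
    (FF.resHom P ⟨x * π ^ n, (FF.mem_O P).2 hO⟩)
  refine ⟨c, ?_⟩
  have h : FF.resHom P (⟨x * π ^ n, (FF.mem_O P).2 hO⟩ - algebraMap k P.O c) = 0 := by
    rw [map_sub, AlgHom.commutes, hc, sub_self]
  exact (FF.resHom_eq_zero_iff P).1 h

include hK in
theorem chi_spec {n : ℤ} {x : K} (hx : P.1 x ≤ exp n) :
    P.1 (x * π ^ n - algebraMap k K (chi P π n x)) < 1 := by
  rw [chi, dif_pos (exists_lead hK P π hπ hx)]
  exact (exists_lead hK P π hπ hx).choose_spec

include hK in
theorem chi_unique {n : ℤ} {x : K} (hx : P.1 x ≤ exp n) {c : k}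
    (hc : P.1 (x * π ^ n - algebraMap k K c) < 1) : chi P π n x = c := by
  refine sub_eq_zero.1 (val_const_eq_zero P ?_)
  rw [show algebraMap k K (chi P π n x - c) = (x * π ^ n - algebraMap k K c) -
    (x * π ^ n - algebraMap k K (chi P π n x)) by rw [map_sub]; ring]
  exact (P.1.map_sub _ _).trans_lt (max_lt hc (chi_spec hK P π hπ hx))

include hK in
theorem chi_add {n : ℤ} {x y : K} (hx : P.1 x ≤ exp n) (hy : P.1 y ≤ exp n) :
    chi P π n (x + y) = chi P π n x + chi P π n y := by
  refine chi_unique hK P π hπ ((P.1.map_add x y).trans (max_le hx hy)) ?_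
  rw [show (x + y) * π ^ n - algebraMap k K (chi P π n x + chi P π n y) =
    (x * π ^ n - algebraMap k K (chi P π n x)) + (y * π ^ n - algebraMap k K (chi P π n y)) by
      rw [map_add]; ring]
  exact (P.1.map_add _ _).trans_lt (max_lt (chi_spec hK P π hπ hx) (chi_spec hK P π hπ hy))

include hK in
theorem chi_zero (n : ℤ) : chi P π n 0 = 0 :=
  chi_unique hK P π hπ (by simp) (by simp)

include hK in
theorem chi_sum {n : ℤ} {ι : Type*} (s : Finset ι) (f : ι → K) (hf : ∀ i ∈ s, P.1 (f i) ≤ exp n) :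
    chi P π n (∑ i ∈ s, f i) = ∑ i ∈ s, chi P π n (f i) := by
  classical
  induction s using Finset.induction_on with
  | empty => simp [chi_zero hK P π hπ]
  | insert a s ha ih =>
    rw [Finset.sum_insert ha, Finset.sum_insert ha,
      chi_add hK P π hπ (hf a (Finset.mem_insert_self a s))
        (P.1.map_sum_le fun i hi => hf i (Finset.mem_insert_of_mem hi)),
      ih fun i hi => hf i (Finset.mem_insert_of_mem hi)]

include hK in
theorem chi_mul {m n : ℤ} {x y : K} (hx : P.1 x ≤ exp m) (hy : P.1 y ≤ exp n) :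
    chi P π (m + n) (x * y) = chi P π m x * chi P π n y := by
  have hxy : P.1 (x * y) ≤ exp (m + n) := by
    rw [map_mul, exp_add]; exact mul_le_mul' hx hy
  refine chi_unique hK P π hπ hxy ?_
  have hπ0 := FF.ne_zero_of_val_eq_exp P hπ
  set a := x * π ^ m - algebraMap k K (chi P π m x) with ha
  set b := y * π ^ n - algebraMap k K (chi P π n y) with hb
  have e : x * y * π ^ (m + n) - algebraMap k K (chi P π m x * chi P π n y) =
      a * b + (algebraMap k K (chi P π m x) * b + algebraMap k K (chi P π n y) * a) := by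
    rw [ha, hb, zpow_add₀ hπ0, map_mul]; ring
  have ha1 := chi_spec hK P π hπ hx
  have hb1 := chi_spec hK P π hπ hy
  rw [e]
  refine (P.1.map_add _ _).trans_lt (max_lt ?_ ((P.1.map_add _ _).trans_lt (max_lt ?_ ?_)))
  · rw [map_mul]
    exact ((mul_le_mul_left ha1.le _).trans_eq (one_mul _)).trans_lt hb1
  · rw [map_mul]
    exact ((mul_le_mul_left (P.2.1 _) _).trans_eq (one_mul _)).trans_lt hb1
  · rw [map_mul]
    exact ((mul_le_mul_left (P.2.1 _) _).trans_eq (one_mul _)).trans_lt ha1

include hK in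
theorem chi_const (c : k) : chi P π 0 (algebraMap k K c) = c :=
  chi_unique hK P π hπ (by rw [exp_zero]; exact P.2.1 c) (by simp)

include hK in
theorem chi_eq_zero_iff {n : ℤ} {x : K} (hx : P.1 x ≤ exp n) :
    chi P π n x = 0 ↔ P.1 x ≤ exp (n - 1) := by
  rw [← FF.lt_exp_iff]
  have key : P.1 (x * π ^ n) < 1 ↔ P.1 x < exp n := by
    rw [val_mul_zpow P π hπ, exp_neg, mul_inv_lt_iff₀ exp_pos, one_mul]
  refine Iff.trans ⟨fun h => ?_, fun h => chi_unique hK P π hπ hx (by simpa using h)⟩ key
  have := chi_spec hK P π hπ hx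
  simpa [h] using this

end Chi

section Ring

/-- The section ring of `P`. -/
noncomputable abbrev SR : Subalgebra k (Polynomial K) := sectRing (D P)

variable {π : K} (hπ : P.1 π = exp (-1 : ℤ))

theorem coeff_le (p : (SR P)) (n : ℕ) : P.1 ((p : Polynomial K).coeff n) ≤ exp (n : ℤ) :=
  ((mem_L_iff P _ _).1 (p.2 n)).2

variable (π) in
/-- `p ↦ ∑ χ_n(p_n) T^n`. -/
noncomputable def psiFun (p : (SR P)) : Polynomial k :=
  ∑ n ∈ (p : Polynomial K).support, Polynomial.monomial n (chi P π n ((p : Polynomial K).coeff n))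

include hK hπ

theorem coeff_psiFun (p : (SR P)) (n : ℕ) :
    (psiFun P π p).coeff n = chi P π n ((p : Polynomial K).coeff n) := by
  classical
  simp only [psiFun, Polynomial.finsetSum_coeff, Polynomial.coeff_monomial, Finset.sum_ite_eq']
  split_ifs with h
  · rfl
  · rw [Polynomial.notMem_support_iff.1 h, chi_zero hK P π hπ]

theorem psiFun_algebraMap (c : k) : psiFun P π (algebraMap k (SR P) c) = Polynomial.C c := by
  ext n
  rw [coeff_psiFun hK P hπ, Subalgebra.coe_algebraMap, Polynomial.algebraMap_apply,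
    Polynomial.coeff_C, Polynomial.coeff_C]
  split_ifs with h
  · subst h; exact chi_const hK P π hπ c
  · exact chi_zero hK P π hπ _

variable (π) in
/-- The leading coefficient map to `k[T]`. -/
noncomputable def psi : (SR P) →ₐ[k] Polynomial k where
  toFun := psiFun P π
  map_one' := by rw [← map_one (algebraMap k (SR P)), psiFun_algebraMap hK P hπ, map_one]
  map_zero' := by rw [← map_zero (algebraMap k (SR P)), psiFun_algebraMap hK P hπ, map_zero]
  map_add' p q := by
    ext n
    rw [Polynomial.coeff_add, coeff_psiFun hK P hπ, coeff_psiFun hK P hπ, coeff_psiFun hK P hπ,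
      Subalgebra.coe_add, Polynomial.coeff_add]
    exact chi_add hK P π hπ (coeff_le P p n) (coeff_le P q n)
  map_mul' p q := by
    ext n
    rw [Polynomial.coeff_mul, coeff_psiFun hK P hπ, Subalgebra.coe_mul, Polynomial.coeff_mul,
      chi_sum hK P π hπ]
    · refine Finset.sum_congr rfl fun x hx => ?_
      rw [coeff_psiFun hK P hπ, coeff_psiFun hK P hπ,
        show (n : ℤ) = (x.1 : ℤ) + (x.2 : ℤ) by rw [← Nat.cast_add, show x.1 + x.2 = n by simpa using hx],
        chi_mul hK P π hπ (coeff_le P p x.1) (coeff_le P q x.2)]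
    · intro x hx
      rw [map_mul, show (n : ℤ) = (x.1 : ℤ) + (x.2 : ℤ) by
        rw [← Nat.cast_add, show x.1 + x.2 = n by simpa using hx], exp_add]
      exact mul_le_mul' (coeff_le P p x.1) (coeff_le P q x.2)
  commutes' := psiFun_algebraMap hK P hπ

theorem coeff_psi (p : (SR P)) (n : ℕ) :
    (psi hK P π hπ p).coeff n = chi P π n ((p : Polynomial K).coeff n) := coeff_psiFun hK P hπ p n

theorem mem_poleOrders_of_coeff_psi {p : (SR P)} {n : ℕ} (h : (psi hK P π hπ p).coeff n ≠ 0) :
    n ∈ poleOrders P := by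
  refine (mem_poleOrders_iff hK P n).2 ⟨(p : Polynomial K).coeff n, p.2 n, ?_⟩
  rw [coeff_psi hK P hπ] at h
  refine le_antisymm (coeff_le P p n) (not_lt.1 fun hlt => h ?_)
  exact (chi_eq_zero_iff hK P π hπ (coeff_le P p n)).2 ((FF.lt_exp_iff _ _).1 hlt)

omit hK hπ in
/-- `x T^n` as an element of the section ring. -/
noncomputable def mono (n : ℕ) (x : K) (hx : x ∈ L ((n : ℤ) • D P)) : (SR P) :=
  ⟨Polynomial.monomial n x, fun m => by
    rw [Polynomial.coeff_monomial]
    split_ifs with h
    · subst h; exact hx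
    · exact zero_mem _⟩

theorem psi_mono {n : ℕ} {x : K} (hx : x ∈ L ((n : ℤ) • D P)) :
    psi hK P π hπ (mono P n x hx) = Polynomial.monomial n (chi P π n x) := by
  ext m
  rw [coeff_psi hK P hπ]
  change chi P π m ((Polynomial.monomial n x).coeff m) = _
  rw [Polynomial.coeff_monomial, Polynomial.coeff_monomial]
  split_ifs with h
  · subst h; rfl
  · exact chi_zero hK P π hπ _

theorem exists_psi_eq_monomial {n : ℕ} (hn : n ∈ poleOrders P) :
    ∃ x : K, ∃ hx : x ∈ L ((n : ℤ) • D P), chi P π n x ≠ 0 ∧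
      psi hK P π hπ (mono P n x hx) = Polynomial.monomial n (chi P π n x) := by
  obtain ⟨x, hx, hv⟩ := (mem_poleOrders_iff hK P n).1 hn
  refine ⟨x, hx, fun h => ?_, psi_mono hK P hπ hx⟩
  have := (chi_eq_zero_iff hK P π hπ hv.le).1 h
  rw [hv, exp_le_exp] at this
  omega

/-- The image of `psi`. -/
theorem mem_range_psi_iff (q : Polynomial k) :
    q ∈ (psi hK P π hπ).range ↔ ∀ n ∈ q.support, n ∈ poleOrders P := by
  constructor
  · rintro ⟨p, rfl⟩ n hn
    exact mem_poleOrders_of_coeff_psi hK P hπ (Polynomial.mem_support_iff.1 hn)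
  · intro h
    rw [Polynomial.as_sum_support q]
    refine sum_mem fun n hn => ?_
    obtain ⟨x, hx, hc, he⟩ := exists_psi_eq_monomial hK P hπ (h n hn)
    refine ⟨(q.coeff n / chi P π n x) • mono P n x hx, ?_⟩
    change psi hK P π hπ _ = _
    rw [map_smul, he, Polynomial.smul_monomial, smul_eq_mul, div_mul_cancel₀ _ hc]

variable {t : (SR P)} {a : K} (ha : a ≠ 0) (ht : (t : Polynomial K) = Polynomial.C a * Polynomial.X)

include hg ha ht

/-- The kernel of `psi` is generated by a degree one element. -/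
theorem ker_psi : RingHom.ker (psi hK P π hπ) = Ideal.span {t} := by
  have haL : a ∈ L ((1 : ℤ) • D P) := by
    have := t.2 1
    rw [ht, Polynomial.coeff_C_mul, Polynomial.coeff_X_one, mul_one, Nat.cast_one] at this
    exact this
  rw [L_one hK P hg] at haL
  obtain ⟨c, hc⟩ := exists_const hK P haL
  have hc0 : c ≠ 0 := fun h => ha (by rw [← hc, h, map_zero])
  apply le_antisymm
  · intro p hp
    rw [RingHom.mem_ker] at hp
    have hlow : ∀ n : ℕ, (p : Polynomial K).coeff n ∈ L (((n : ℤ) - 1) • D P) := fun n => by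
      have h := congrArg (fun q => Polynomial.coeff q n) hp
      simp only [Polynomial.coeff_zero] at h
      rw [coeff_psi hK P hπ, chi_eq_zero_iff hK P π hπ (coeff_le P p n)] at h
      exact (mem_L_iff P _ _).2 ⟨((mem_L_iff P _ _).1 (p.2 n)).1, h⟩
    refine Ideal.mem_span_singleton'.2 ⟨⟨Polynomial.C a⁻¹ * Polynomial.divX (p : Polynomial K),
      fun n => ?_⟩, Subtype.ext ?_⟩
    · rw [Polynomial.coeff_C_mul, Polynomial.coeff_divX, ← hc, ← map_inv₀, ← Algebra.smul_def]
      refine Submodule.smul_mem _ _ ?_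
      simpa using hlow (n + 1)
    · have h0 : (p : Polynomial K).coeff 0 = 0 := by
        have h := hlow 0
        rw [Nat.cast_zero, zero_sub, FF.L_eq_bot_of_deg_neg hK (by
          rw [FF.deg_zsmul, FF.deg_single, FF.deg_eq_one hK P]; norm_num)] at h
        exact (Submodule.mem_bot k).1 h
      change (Polynomial.C a⁻¹ * Polynomial.divX (p : Polynomial K)) * (t : Polynomial K) = p
      rw [ht]
      conv_rhs => rw [← Polynomial.divX_mul_X_add (p : Polynomial K), h0, map_zero, add_zero]
      rw [mul_mul_mul_comm, ← Polynomial.C_mul, inv_mul_cancel₀ ha, map_one, one_mul]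
  · rw [Ideal.span_le, Set.singleton_subset_iff, SetLike.mem_coe, RingHom.mem_ker]
    ext n
    rw [coeff_psi hK P hπ, ht, Polynomial.coeff_C_mul, Polynomial.coeff_X, Polynomial.coeff_zero]
    split_ifs with h
    · subst h
      rw [mul_one, Nat.cast_one]
      have h1 := ((mem_L_iff P _ _).1 haL).2
      exact (chi_eq_zero_iff hK P π hπ (h1.trans (exp_le_exp.2 zero_le_one))).2 (by simpa using h1)
    · rw [mul_zero]; exact chi_zero hK P π hπ _

theorem prime_t : Prime t := by
  have ht0 : t ≠ 0 := fun h => by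
    have := congrArg (fun q : Polynomial K => q.coeff 1) ((ht.symm.trans (congrArg Subtype.val h)))
    simp at this
    exact ha this
  rw [← Ideal.span_singleton_prime ht0, ← ker_psi hK P hg hπ ha ht]
  exact RingHom.ker_isPrime _

set_option maxHeartbeats 1000000 in
theorem nonempty_algEquiv :
    Nonempty (((SR P) ⧸ Ideal.span {t}) ≃ₐ[k] AddMonoidAlgebra k ↥(AddSubmonoid.closure (poleOrders P))) := by
  classical
  let M := AddSubmonoid.closure (poleOrders P)
  let ι : AddMonoidAlgebra k M →ₐ[k] Polynomial k :=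
    (Polynomial.toFinsuppIsoAlg k).symm.toAlgHom.comp
      (AddMonoidAlgebra.mapDomainAlgHom k k (AddSubmonoid.subtype M))
  have hι : Function.Injective ι := fun u v h =>
    AddMonoidAlgebra.mapDomain_injective Subtype.val_injective
      ((Polynomial.toFinsuppIsoAlg k).symm.injective h)
  have hmem : ∀ n : ℕ, n ∈ M ↔ n ∈ poleOrders P := fun n =>
    Set.ext_iff.1 (closure_poleOrders hK P) n
  have hsingle : ∀ (n : M) (c : k), ι (AddMonoidAlgebra.single n c) = Polynomial.monomial (n : ℕ) c := by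
    intro n c
    change (Polynomial.toFinsuppIsoAlg k).symm (AddMonoidAlgebra.mapDomain _ _) = _
    rw [AddMonoidAlgebra.mapDomain_single, AlgEquiv.symm_apply_eq]
    exact (Polynomial.toFinsupp_monomial _ _).symm
  have hrange : (psi hK P π hπ).range = ι.range := by
    apply le_antisymm
    · intro q hq
      rw [mem_range_psi_iff hK P hπ] at hq
      rw [Polynomial.as_sum_support q]
      exact sum_mem fun n hn => ⟨AddMonoidAlgebra.single ⟨n, (hmem n).2 (hq n hn)⟩ (q.coeff n),
        hsingle _ _⟩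
    · rintro q ⟨f, rfl⟩
      induction f using AddMonoidAlgebra.induction_linear with
      | zero => exact (map_zero ι.toRingHom).symm ▸ zero_mem _
      | add u v hu hv => exact (map_add ι.toRingHom u v).symm ▸ add_mem hu hv
      | single n c =>
        change ι (AddMonoidAlgebra.single n c) ∈ _
        rw [hsingle, mem_range_psi_iff hK P hπ]
        intro m hm
        rw [Polynomial.mem_support_iff, Polynomial.coeff_monomial] at hm
        split_ifs at hm with h
        · exact h ▸ (hmem n).1 n.2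
        · exact absurd rfl hm
  let e1 := (Ideal.quotientEquivAlgOfEq k (ker_psi hK P hg hπ ha ht).symm).trans
    (Ideal.quotientKerAlgEquivOfSurjective (f := (psi hK P π hπ).rangeRestrict)
      (psi hK P π hπ).rangeRestrict_surjective |> fun e => (Ideal.quotientEquivAlgOfEq k
        (RingHom.ker_rangeRestrict (psi hK P π hπ).toRingHom).symm).trans e)
  exact ⟨e1.trans ((Subalgebra.equivOfEq _ _ hrange).trans (AlgEquiv.ofInjective ι hι).symm)⟩

end Ring

end Groth.Agent.GrSect
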